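import Mathlib

/-!
# Divided powers on the kernel of the p-adic completion (helper6)
-/

set_option autoImplicit false
set_option linter.unusedSectionVars false
set_option linter.unusedVariables false
set_option linter.unusedSimpArgs false
set_option linter.style.haveILetI false
set_option maxHeartbeats 400000
universe u

namespace Groth.Agent.Lib.Helper6.DP

open Finset

section Key

variable {A : Type u} [CommRing A] {I : Ideal A} (γ : DividedPowers I) (p : ℕ) (t : ℕ)
  (ht : Ideal.span {(p : A)} ^ t ≤ I)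

include ht in
lemma dpow_sub_mem {x x' : A} (hx : x ∈ I) (hx' : x' ∈ I) (m n : ℕ)
    (h : x - x' ∈ Ideal.span {(p : A)} ^ (m + t)) :
    γ.dpow n x - γ.dpow n x' ∈ Ideal.span {(p : A)} ^ m := by
  rw [Ideal.span_singleton_pow, Ideal.mem_span_singleton'] at h
  obtain ⟨u, hu⟩ := h
  have hv : (p : A) ^ t * u ∈ I := ht (by
    rw [Ideal.span_singleton_pow]
    exact Ideal.mem_span_singleton'.mpr ⟨u, mul_comm _ _⟩)
  have hxe : x = x' + (p : A) ^ m * ((p : A) ^ t * u) := by
    rw [← mul_assoc, ← pow_add, mul_comm, hu]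
    ring
  have hpv : (p : A) ^ m * ((p : A) ^ t * u) ∈ I := I.mul_mem_left _ hv
  rw [hxe, γ.dpow_add hx' hpv,
    ← Finset.add_sum_erase _ _ (show (n, 0) ∈ HasAntidiagonal.antidiagonal n by simp)]
  simp only
  rw [γ.dpow_zero hpv, mul_one, add_sub_cancel_left]
  refine Ideal.sum_mem _ fun k hk => ?_
  rw [Finset.mem_erase, HasAntidiagonal.mem_antidiagonal] at hk
  have hk2 : k.2 ≠ 0 := by
    intro h0
    apply hk.1
    ext
    · simp only
      omega
    · exact h0
  rw [γ.dpow_mul hv]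
  apply Ideal.mul_mem_left
  apply Ideal.mul_mem_right
  rw [← pow_mul]
  have h1 : (p : A) ^ (m * k.2) ∈ Ideal.span {(p : A)} ^ (m * k.2) :=
    Ideal.pow_mem_pow (Ideal.mem_span_singleton_self _) _
  exact Ideal.pow_le_pow_right (Nat.le_mul_of_pos_right m (Nat.pos_of_ne_zero hk2)) h1

end Key

section Compl

open AdicCompletion

variable {A : Type u} [CommRing A] {I : Ideal A} (γ : DividedPowers I) (p : ℕ) (t : ℕ)
  (ht : Ideal.span {(p : A)} ^ t ≤ I)

/-- The projection `A^ → A/I`. -/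
noncomputable abbrev piMap : AdicCompletion (Ideal.span {(p : A)}) A →+* A ⧸ I :=
  (Ideal.Quotient.factor ht).comp (AdicCompletion.evalₐ (Ideal.span {(p : A)}) t).toRingHom

lemma smul_top_eq (j : ℕ) :
    (Ideal.span {(p : A)} ^ j • ⊤ : Submodule A A) = Ideal.span {(p : A)} ^ j := by
  simp

lemma eval_factor (z : AdicCompletion (Ideal.span {(p : A)}) A) {j j' : ℕ} (h : j ≤ j') :
    Ideal.Quotient.factor (Ideal.pow_le_pow_right h) (evalₐ (Ideal.span {(p : A)}) j' z) =
      evalₐ (Ideal.span {(p : A)}) j z := by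
  obtain ⟨f, rfl⟩ := AdicCompletion.mk_surjective (Ideal.span {(p : A)}) A z
  rw [evalₐ_mk, evalₐ_mk, Ideal.Quotient.factor_mk, Ideal.Quotient.eq]
  have h1 := f.2 h
  rw [SModEq.sub_mem, smul_top_eq] at h1
  have h2 : f.val j' - f.val j = -(f.val j - f.val j') := by ring
  rw [h2]
  exact neg_mem h1

lemma piMap_apply (z : AdicCompletion (Ideal.span {(p : A)}) A) :
    piMap p t ht z = Ideal.Quotient.factor ht (evalₐ (Ideal.span {(p : A)}) t z) := rfl

/-- Lifts of elements of the kernel lie in `I`. -/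
lemma lift_mem {z : AdicCompletion (Ideal.span {(p : A)}) A} (hz : z ∈ RingHom.ker (piMap p t ht))
    {j : ℕ} (hj : t ≤ j) {x : A}
    (hx : Ideal.Quotient.mk (Ideal.span {(p : A)} ^ j) x = evalₐ (Ideal.span {(p : A)}) j z) :
    x ∈ I := by
  rw [RingHom.mem_ker, piMap_apply, ← eval_factor p z hj, ← hx, Ideal.Quotient.factor_mk,
    Ideal.Quotient.factor_mk, Ideal.Quotient.eq_zero_iff_mem] at hz
  exact hz

lemma exists_lift (z : AdicCompletion (Ideal.span {(p : A)}) A) (j : ℕ) :
    ∃ x : A, Ideal.Quotient.mk (Ideal.span {(p : A)} ^ j) x = evalₐ (Ideal.span {(p : A)}) j z :=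
  Ideal.Quotient.mk_surjective _

/-- A chosen lift. -/
noncomputable def liftAt (z : AdicCompletion (Ideal.span {(p : A)}) A) (j : ℕ) : A :=
  (exists_lift p z j).choose

lemma liftAt_spec (z : AdicCompletion (Ideal.span {(p : A)}) A) (j : ℕ) :
    Ideal.Quotient.mk (Ideal.span {(p : A)} ^ j) (liftAt p z j) =
      evalₐ (Ideal.span {(p : A)}) j z :=
  (exists_lift p z j).choose_spec

include ht in
lemma seq_cauchy {z : AdicCompletion (Ideal.span {(p : A)}) A}
    (hz : z ∈ RingHom.ker (piMap p t ht)) (n : ℕ) :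
    ∀ m m' : ℕ, m ≤ m' → γ.dpow n (liftAt p z (m + t)) ≡ γ.dpow n (liftAt p z (m' + t))
      [SMOD (Ideal.span {(p : A)} ^ m • ⊤ : Submodule A A)] := by
  intro m m' hmm'
  rw [SModEq.sub_mem, smul_top_eq]
  have h1 := lift_mem p t ht hz (Nat.le_add_left t m) (liftAt_spec p z (m + t))
  have h2 := lift_mem p t ht hz (Nat.le_add_left t m') (liftAt_spec p z (m' + t))
  refine dpow_sub_mem γ p t ht h1 h2 m n ?_
  rw [← Ideal.Quotient.eq, liftAt_spec, ← eval_factor p z (show m + t ≤ m' + t by omega),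
    ← liftAt_spec p z (m' + t), Ideal.Quotient.factor_mk]

/-- The Cauchy sequence defining the divided power of `z`. -/
noncomputable def dpSeq {z : AdicCompletion (Ideal.span {(p : A)}) A}
    (hz : z ∈ RingHom.ker (piMap p t ht)) (n : ℕ) :
    AdicCompletion.AdicCauchySequence (Ideal.span {(p : A)}) A :=
  ⟨fun m => γ.dpow n (liftAt p z (m + t)), fun {m m'} h => seq_cauchy γ p t ht hz n m m' h⟩

lemma dpSeq_val {z : AdicCompletion (Ideal.span {(p : A)}) A}
    (hz : z ∈ RingHom.ker (piMap p t ht)) (n m : ℕ) :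
    (dpSeq γ p t ht hz n).val m = γ.dpow n (liftAt p z (m + t)) := rfl

open Classical in
/-- The divided power operations on the completion. -/
noncomputable def dp (n : ℕ) (z : AdicCompletion (Ideal.span {(p : A)}) A) :
    AdicCompletion (Ideal.span {(p : A)}) A :=
  if hz : z ∈ RingHom.ker (piMap p t ht) then
    AdicCompletion.mk (Ideal.span {(p : A)}) A (dpSeq γ p t ht hz n)
  else 0

lemma dp_pos {z : AdicCompletion (Ideal.span {(p : A)}) A}
    (hz : z ∈ RingHom.ker (piMap p t ht)) (n : ℕ) :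
    dp γ p t ht n z = AdicCompletion.mk (Ideal.span {(p : A)}) A (dpSeq γ p t ht hz n) :=
  dif_pos hz

lemma eval_dp {z : AdicCompletion (Ideal.span {(p : A)}) A}
    (hz : z ∈ RingHom.ker (piMap p t ht)) (n m : ℕ) {x : A}
    (hx : Ideal.Quotient.mk (Ideal.span {(p : A)} ^ (m + t)) x =
      evalₐ (Ideal.span {(p : A)}) (m + t) z) :
    evalₐ (Ideal.span {(p : A)}) m (dp γ p t ht n z) =
      Ideal.Quotient.mk (Ideal.span {(p : A)} ^ m) (γ.dpow n x) := by
  rw [dp_pos γ p t ht hz, evalₐ_mk, dpSeq_val, Ideal.Quotient.eq]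
  have h1 := lift_mem p t ht hz (Nat.le_add_left t m) (liftAt_spec p z (m + t))
  have h2 := lift_mem p t ht hz (Nat.le_add_left t m) hx
  refine dpow_sub_mem γ p t ht h1 h2 m n ?_
  rw [← Ideal.Quotient.eq, liftAt_spec, hx]

lemma exists_lift_mem {z : AdicCompletion (Ideal.span {(p : A)}) A}
    (hz : z ∈ RingHom.ker (piMap p t ht)) (m : ℕ) :
    ∃ x ∈ I, Ideal.Quotient.mk (Ideal.span {(p : A)} ^ (m + t)) x =
      evalₐ (Ideal.span {(p : A)}) (m + t) z :=
  ⟨liftAt p z (m + t), lift_mem p t ht hz (Nat.le_add_left t m) (liftAt_spec p z (m + t)),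
    liftAt_spec p z (m + t)⟩

lemma eval_low {z : AdicCompletion (Ideal.span {(p : A)}) A} {m : ℕ} {x : A}
    (hx : Ideal.Quotient.mk (Ideal.span {(p : A)} ^ (m + t)) x =
      evalₐ (Ideal.span {(p : A)}) (m + t) z) :
    evalₐ (Ideal.span {(p : A)}) m z = Ideal.Quotient.mk (Ideal.span {(p : A)} ^ m) x := by
  rw [← eval_factor p z (Nat.le_add_right m t), ← hx, Ideal.Quotient.factor_mk]

lemma dp_mem {z : AdicCompletion (Ideal.span {(p : A)}) A}
    (hz : z ∈ RingHom.ker (piMap p t ht)) {n : ℕ} (hn : n ≠ 0) :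
    dp γ p t ht n z ∈ RingHom.ker (piMap p t ht) := by
  obtain ⟨x, hxI, hx⟩ := exists_lift_mem p t ht hz t
  rw [RingHom.mem_ker, piMap_apply, eval_dp γ p t ht hz n t hx, Ideal.Quotient.factor_mk,
    Ideal.Quotient.eq_zero_iff_mem]
  exact γ.dpow_mem hn hxI

/-- The divided power structure on the kernel of `A^ → A/I`. -/
noncomputable def dividedPowersCompl : DividedPowers (RingHom.ker (piMap p t ht)) where
  dpow := dp γ p t ht
  dpow_null {n z} hz := by rw [dp, dif_neg hz]
  dpow_zero {z} hz := by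
    apply ext_evalₐ
    intro m
    obtain ⟨x, hxI, hx⟩ := exists_lift_mem p t ht hz m
    rw [eval_dp γ p t ht hz 0 m hx, γ.dpow_zero hxI, map_one, map_one]
  dpow_one {z} hz := by
    apply ext_evalₐ
    intro m
    obtain ⟨x, hxI, hx⟩ := exists_lift_mem p t ht hz m
    rw [eval_dp γ p t ht hz 1 m hx, γ.dpow_one hxI, eval_low p t hx]
  dpow_mem {n z} hn hz := dp_mem γ p t ht hz hn
  dpow_add {n z z'} hz hz' := by
    apply ext_evalₐ
    intro m
    obtain ⟨x, hxI, hx⟩ := exists_lift_mem p t ht hz m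
    obtain ⟨x', hxI', hx'⟩ := exists_lift_mem p t ht hz' m
    have hadd : Ideal.Quotient.mk (Ideal.span {(p : A)} ^ (m + t)) (x + x') =
        evalₐ (Ideal.span {(p : A)}) (m + t) (z + z') := by
      rw [map_add, map_add, hx, hx']
    rw [eval_dp γ p t ht (add_mem hz hz') n m hadd, γ.dpow_add hxI hxI', map_sum, map_sum]
    refine Finset.sum_congr rfl fun k _ => ?_
    rw [map_mul, map_mul, eval_dp γ p t ht hz k.1 m hx, eval_dp γ p t ht hz' k.2 m hx']
  dpow_mul {n a z} hz := by
    apply ext_evalₐ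
    intro m
    obtain ⟨x, hxI, hx⟩ := exists_lift_mem p t ht hz m
    obtain ⟨α, hα⟩ := exists_lift p a (m + t)
    have hmul : Ideal.Quotient.mk (Ideal.span {(p : A)} ^ (m + t)) (α * x) =
        evalₐ (Ideal.span {(p : A)}) (m + t) (a * z) := by
      rw [map_mul, map_mul, hx, hα]
    rw [eval_dp γ p t ht (Ideal.mul_mem_left _ a hz) n m hmul, γ.dpow_mul hxI, map_mul, map_mul,
      map_pow, map_pow, eval_dp γ p t ht hz n m hx, eval_low p t hα]
  mul_dpow {m' n z} hz := by
    apply ext_evalₐ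
    intro m
    obtain ⟨x, hxI, hx⟩ := exists_lift_mem p t ht hz m
    rw [map_mul, map_mul, eval_dp γ p t ht hz m' m hx, eval_dp γ p t ht hz n m hx,
      eval_dp γ p t ht hz (m' + n) m hx, ← map_mul, γ.mul_dpow hxI, map_mul, map_natCast,
      map_natCast]
  dpow_comp {m' n z} hn hz := by
    apply ext_evalₐ
    intro m
    obtain ⟨x, hxI, hx⟩ := exists_lift_mem p t ht hz (m + t)
    have hx' : Ideal.Quotient.mk (Ideal.span {(p : A)} ^ (m + t)) x =
        evalₐ (Ideal.span {(p : A)}) (m + t) z := (eval_low p t hx).symm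
    have h1 : Ideal.Quotient.mk (Ideal.span {(p : A)} ^ (m + t)) (γ.dpow n x) =
        evalₐ (Ideal.span {(p : A)}) (m + t) (dp γ p t ht n z) :=
      (eval_dp γ p t ht hz n (m + t) hx).symm
    rw [eval_dp γ p t ht (dp_mem γ p t ht hz hn) m' m h1, γ.dpow_comp hn hxI, map_mul, map_mul,
      map_natCast, map_natCast, eval_dp γ p t ht hz (m' * n) m hx']

theorem isDPMorphism_compl :
    γ.IsDPMorphism (dividedPowersCompl γ p t ht)
      (algebraMap A (AdicCompletion (Ideal.span {(p : A)}) A)) := by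
  have hmem : ∀ a ∈ I, algebraMap A (AdicCompletion (Ideal.span {(p : A)}) A) a ∈
      RingHom.ker (piMap p t ht) := by
    intro a ha
    rw [RingHom.mem_ker, piMap_apply, AdicCompletion.algebraMap_apply, evalₐ_of,
      Ideal.Quotient.factor_mk, Ideal.Quotient.eq_zero_iff_mem]
    exact ha
  refine ⟨?_, ?_⟩
  · rw [Ideal.map_le_iff_le_comap]
    intro a ha
    exact hmem a ha
  · intro n a ha
    apply ext_evalₐ
    intro m
    have hx : Ideal.Quotient.mk (Ideal.span {(p : A)} ^ (m + t)) a =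
        evalₐ (Ideal.span {(p : A)}) (m + t)
          (algebraMap A (AdicCompletion (Ideal.span {(p : A)}) A) a) := by
      rw [AdicCompletion.algebraMap_apply, evalₐ_of, Algebra.algebraMap_self, RingHom.id_apply]
    change evalₐ _ m (dp γ p t ht n _) = _
    rw [eval_dp γ p t ht (hmem a ha) n m hx, AdicCompletion.algebraMap_apply, evalₐ_of,
      Algebra.algebraMap_self, RingHom.id_apply]

theorem piMap_surjective : Function.Surjective (piMap p t ht) := by
  intro y
  obtain ⟨a, rfl⟩ := Ideal.Quotient.mk_surjective y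
  refine ⟨algebraMap A _ a, ?_⟩
  rw [piMap_apply, AdicCompletion.algebraMap_apply, evalₐ_of, Ideal.Quotient.factor_mk,
    Algebra.algebraMap_self, RingHom.id_apply]

end Compl

end Groth.Agent.Lib.Helper6.DP
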