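import Mathlib.RingTheory.DividedPowers.RatAlgebra
import Mathlib.RingTheory.DividedPowers.DPMorphism
import Mathlib.Algebra.MvPolynomial.CommRing
import Mathlib.LinearAlgebra.Basis.Basic
import Mathlib.LinearAlgebra.Finsupp.LinearCombination
import Mathlib.LinearAlgebra.BilinearMap
import Mathlib.Algebra.Algebra.Bilinear
import Mathlib.Combinatorics.Enumerative.Bell
import Mathlib.Tactic

/-!
# The integral divided power polynomial ring `ℤ⟨X_i : i ∈ σ⟩ ⊆ ℚ[X_i]` (helper6)

We realise the divided power polynomial ring over `ℤ` as the subring of `MvPolynomial σ ℚ` of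
polynomials `f` such that `e! * coeff e f ∈ ℤ` for all exponents `e`.  It is free over `ℤ` on the
divided monomials `X^[e] = X^e / e!`, its augmentation ideal carries the divided power structure
`f ↦ f^n / n!`, and it has the expected mapping property with respect to families of elements
`c i n` with `c i 0 = 1` and `c i n * c i m = choose (n+m) n * c i (n+m)`.
-/

set_option autoImplicit false
set_option linter.unusedSectionVars false
set_option linter.unusedVariables false
set_option linter.unusedSimpArgs false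
set_option linter.style.haveILetI false
set_option maxHeartbeats 400000
universe u v w

namespace Groth.Agent.Lib.Helper6.DP

open MvPolynomial Finset

section Fact

variable {σ : Type w}

/-- Product of the factorials of the entries of an exponent vector. -/
def efact (e : σ →₀ ℕ) : ℕ := e.prod fun _ n => n.factorial

lemma efact_eq_prod (e : σ →₀ ℕ) (s : Finset σ) (hs : e.support ⊆ s) :
    efact e = ∏ i ∈ s, (e i).factorial :=
  Finsupp.prod_of_support_subset _ hs _ (fun _ _ => rfl)

lemma efact_zero : efact (0 : σ →₀ ℕ) = 1 := by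
  simp [efact]

lemma efact_pos (e : σ →₀ ℕ) : 0 < efact e := by
  rw [efact, Finsupp.prod]
  exact Finset.prod_pos fun i _ => Nat.factorial_pos _

lemma efact_ne_zero (e : σ →₀ ℕ) : efact e ≠ 0 := (efact_pos e).ne'

lemma efact_cast_ne_zero (e : σ →₀ ℕ) : (efact e : ℚ) ≠ 0 := by
  exact_mod_cast efact_ne_zero e

lemma efact_single [DecidableEq σ] (i : σ) (n : ℕ) : efact (Finsupp.single i n) = n.factorial := by
  rw [efact, Finsupp.prod_single_index]
  rfl

/-- Product of binomial coefficients. -/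
noncomputable def echoose (a b : σ →₀ ℕ) : ℕ :=
  open Classical in ∏ i ∈ a.support ∪ b.support, (a i + b i).choose (a i)

lemma echoose_eq_prod (a b : σ →₀ ℕ) (s : Finset σ) (ha : a.support ⊆ s) (hb : b.support ⊆ s) :
    echoose a b = ∏ i ∈ s, (a i + b i).choose (a i) := by
  classical
  rw [echoose]
  refine Finset.prod_subset (Finset.union_subset ha hb) ?_
  intro i _ hi
  rw [Finset.mem_union, not_or, Finsupp.notMem_support_iff, Finsupp.notMem_support_iff] at hi
  rw [hi.1, hi.2]
  rfl

lemma efact_add (a b : σ →₀ ℕ) : efact (a + b) = echoose a b * efact a * efact b := by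
  classical
  have hs : (a + b).support ⊆ a.support ∪ b.support := Finsupp.support_add
  rw [efact_eq_prod (a + b) _ hs, efact_eq_prod a _ Finset.subset_union_left,
    efact_eq_prod b _ Finset.subset_union_right,
    echoose_eq_prod a b _ Finset.subset_union_left Finset.subset_union_right,
    ← Finset.prod_mul_distrib, ← Finset.prod_mul_distrib]
  refine Finset.prod_congr rfl fun i _ => ?_
  rw [Finsupp.add_apply, Nat.choose_symm_add,
    ← Nat.add_choose_mul_factorial_mul_factorial (a i) (b i)]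

/-- For `e ≠ 0`, `(e!)^n * n!` divides `(n • e)!`. -/
lemma efact_pow_mul_dvd (e : σ →₀ ℕ) (he : e ≠ 0) (n : ℕ) :
    efact e ^ n * n.factorial ∣ efact (n • e) := by
  classical
  obtain ⟨i0, hi0⟩ : ∃ i, i ∈ e.support := by
    by_contra h
    push Not at h
    exact he (Finsupp.support_eq_empty.mp (Finset.eq_empty_of_forall_notMem h))
  have hs : (n • e).support ⊆ e.support := Finsupp.support_smul
  rw [efact_eq_prod (n • e) _ hs, efact_eq_prod e _ (Finset.Subset.refl _),
    ← Finset.prod_pow, ← Finset.mul_prod_erase _ _ hi0, ← Finset.mul_prod_erase _ _ hi0,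
    mul_right_comm]
  refine mul_dvd_mul ?_ (Finset.prod_dvd_prod_of_dvd _ _ fun i hi => ?_)
  · have h0 : e i0 ≠ 0 := Finsupp.mem_support_iff.mp hi0
    refine ⟨Nat.uniformBell n (e i0), ?_⟩
    rw [Finsupp.smul_apply, smul_eq_mul, ← Nat.uniformBell_mul_eq n h0]
    ring
  · have h0 : e i ≠ 0 := Finsupp.mem_support_iff.mp (Finset.mem_of_mem_erase hi)
    refine ⟨Nat.uniformBell n (e i) * n.factorial, ?_⟩
    rw [Finsupp.smul_apply, smul_eq_mul, ← Nat.uniformBell_mul_eq n h0]
    ring

lemma echoose_single [DecidableEq σ] (i : σ) (n m : ℕ) :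
    echoose (Finsupp.single i n) (Finsupp.single i m) = (n + m).choose n := by
  rw [echoose_eq_prod _ _ {i} (Finsupp.support_single_subset) (Finsupp.support_single_subset),
    Finset.prod_singleton, Finsupp.single_eq_same, Finsupp.single_eq_same]

lemma echoose_of_disjoint (a b : σ →₀ ℕ) (h : Disjoint a.support b.support) :
    echoose a b = 1 := by
  classical
  rw [echoose]
  refine Finset.prod_eq_one fun i hi => ?_
  by_cases hia : i ∈ a.support
  · have hib : b i = 0 := Finsupp.notMem_support_iff.mp (Finset.disjoint_left.mp h hia)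
    rw [hib, add_zero, Nat.choose_self]
  · have hia' : a i = 0 := Finsupp.notMem_support_iff.mp hia
    rw [hia', Nat.choose_zero_right]

end Fact

section Model

variable (σ : Type w)

/-- The integral divided power polynomial ring, as a subring of `ℚ[X_i]`. -/
def dpSubring : Subring (MvPolynomial σ ℚ) where
  carrier := {f | ∀ e, (efact e : ℚ) * coeff e f ∈ (Int.castRingHom ℚ).range}
  mul_mem' := by
    classical
    intro f g hf hg e
    rw [coeff_mul, Finset.mul_sum]
    refine Subring.sum_mem _ fun x hx => ?_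
    have hx' : x.1 + x.2 = e := HasAntidiagonal.mem_antidiagonal.mp hx
    have h : (efact e : ℚ) * (coeff x.1 f * coeff x.2 g) =
        (echoose x.1 x.2 : ℚ) * ((efact x.1 : ℚ) * coeff x.1 f) *
          ((efact x.2 : ℚ) * coeff x.2 g) := by
      rw [← hx', efact_add]
      push_cast
      ring
    rw [h]
    exact Subring.mul_mem _ (Subring.mul_mem _ (natCast_mem _ _) (hf _)) (hg _)
  one_mem' := by
    classical
    intro e
    rw [coeff_one]
    split_ifs with h
    · subst h
      rw [efact_zero, Nat.cast_one, mul_one]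
      exact Subring.one_mem _
    · rw [mul_zero]
      exact Subring.zero_mem _
  add_mem' := by
    intro f g hf hg e
    rw [coeff_add, mul_add]
    exact Subring.add_mem _ (hf e) (hg e)
  zero_mem' := by
    intro e
    rw [coeff_zero, mul_zero]
    exact Subring.zero_mem _
  neg_mem' := by
    intro f hf e
    rw [coeff_neg, mul_neg]
    exact Subring.neg_mem _ (hf e)

lemma mem_dpSubring {f : MvPolynomial σ ℚ} :
    f ∈ dpSubring σ ↔ ∀ e, (efact e : ℚ) * coeff e f ∈ (Int.castRingHom ℚ).range := Iff.rfl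

lemma monomial_mem_dpSubring (e : σ →₀ ℕ) (c : ℚ)
    (hc : (efact e : ℚ) * c ∈ (Int.castRingHom ℚ).range) : monomial e c ∈ dpSubring σ := by
  classical
  intro e'
  rw [coeff_monomial]
  split_ifs with h
  · subst h
    exact hc
  · rw [mul_zero]
    exact Subring.zero_mem _

/-- The divided monomial `X^e / e!`. -/
noncomputable def dpMon (e : σ →₀ ℕ) : dpSubring σ :=
  ⟨monomial e ((efact e : ℚ)⁻¹), monomial_mem_dpSubring σ e _ (by
    rw [mul_inv_cancel₀ (efact_cast_ne_zero e)]
    exact Subring.one_mem _)⟩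

lemma dpMon_val (e : σ →₀ ℕ) :
    (dpMon σ e : MvPolynomial σ ℚ) = monomial e ((efact e : ℚ)⁻¹) := rfl

lemma dpMon_zero : dpMon σ 0 = 1 := by
  apply Subtype.ext
  rw [dpMon_val, efact_zero, Nat.cast_one, inv_one]
  rfl

lemma dpMon_mul (a b : σ →₀ ℕ) :
    dpMon σ a * dpMon σ b = (echoose a b : dpSubring σ) * dpMon σ (a + b) := by
  apply Subtype.ext
  rw [Subring.coe_mul, Subring.coe_mul, Subring.coe_natCast, dpMon_val, dpMon_val, dpMon_val,
    monomial_mul, ← map_natCast (C : ℚ →+* MvPolynomial σ ℚ), C_mul_monomial]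
  congr 1
  have hF : (efact (a + b) : ℚ) ≠ 0 := efact_cast_ne_zero _
  have h := efact_add a b
  have h' : (efact (a + b) : ℚ) = (echoose a b : ℚ) * efact a * efact b := by
    rw [h]
    push_cast
    rfl
  have ha := efact_cast_ne_zero a
  have hb := efact_cast_ne_zero b
  rw [eq_mul_inv_iff_mul_eq₀ hF, h']
  field_simp

lemma coeff_dpMon [DecidableEq σ] (e e' : σ →₀ ℕ) :
    coeff e' (dpMon σ e : MvPolynomial σ ℚ) = if e = e' then (efact e : ℚ)⁻¹ else 0 := by
  rw [dpMon_val, coeff_monomial]

/-- Every element is an integral combination of divided monomials. -/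
lemma exists_repr (f : dpSubring σ) : ∃ z : (σ →₀ ℕ) → ℤ,
    f = ∑ e ∈ (f : MvPolynomial σ ℚ).support, z e • dpMon σ e := by
  classical
  have hz : ∀ e, ∃ z : ℤ, (z : ℚ) = (efact e : ℚ) * coeff e (f : MvPolynomial σ ℚ) := by
    intro e
    obtain ⟨z, hz⟩ := RingHom.mem_range.mp (f.2 e)
    exact ⟨z, hz⟩
  choose z hz using hz
  refine ⟨z, ?_⟩
  apply Subtype.ext
  rw [AddSubmonoidClass.coe_finsetSum]
  conv_lhs => rw [← support_sum_monomial_coeff (f : MvPolynomial σ ℚ)]
  refine Finset.sum_congr rfl fun e _ => ?_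
  have h1 : ((z e • dpMon σ e : dpSubring σ) : MvPolynomial σ ℚ) =
      z e • (dpMon σ e : MvPolynomial σ ℚ) := rfl
  rw [h1, dpMon_val, smul_monomial]
  congr 1
  rw [zsmul_eq_mul, hz e]
  have := efact_cast_ne_zero e
  field_simp

lemma linearIndependent_dpMon : LinearIndependent ℤ (dpMon σ) := by
  classical
  rw [linearIndependent_iff]
  intro l hl
  ext e
  have h1 : coeff e ((Finsupp.linearCombination ℤ (dpMon σ) l : dpSubring σ) :
      MvPolynomial σ ℚ) = (l e : ℚ) * (efact e : ℚ)⁻¹ := by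
    rw [Finsupp.linearCombination_apply, Finsupp.sum, AddSubmonoidClass.coe_finsetSum,
      coeff_sum]
    have h2 : ∀ e' : σ →₀ ℕ, coeff e ((l e' • dpMon σ e' : dpSubring σ) : MvPolynomial σ ℚ) =
        if e' = e then (l e' : ℚ) * (efact e' : ℚ)⁻¹ else 0 := by
      intro e'
      have h3 : ((l e' • dpMon σ e' : dpSubring σ) : MvPolynomial σ ℚ) =
          l e' • (dpMon σ e' : MvPolynomial σ ℚ) := rfl
      rw [h3, coeff_smul, coeff_dpMon, zsmul_eq_mul]
      split_ifs <;> simp
    simp_rw [h2]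
    rw [Finset.sum_ite_eq']
    split_ifs with h
    · rfl
    · rw [Finsupp.notMem_support_iff.mp h]
      simp
  rw [hl] at h1
  have h4 : ((0 : dpSubring σ) : MvPolynomial σ ℚ) = 0 := rfl
  rw [h4, coeff_zero] at h1
  have := efact_cast_ne_zero e
  have h5 : (l e : ℚ) = 0 := by
    rcases mul_eq_zero.mp h1.symm with h | h
    · exact h
    · exact absurd (inv_eq_zero.mp h) this
  rw [Finsupp.zero_apply]
  exact_mod_cast h5

lemma span_dpMon : ⊤ ≤ Submodule.span ℤ (Set.range (dpMon σ)) := by
  intro f _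
  obtain ⟨z, hz⟩ := exists_repr σ f
  rw [hz]
  exact Submodule.sum_mem _ fun e _ =>
    Submodule.smul_mem _ _ (Submodule.subset_span ⟨e, rfl⟩)

/-- The `ℤ`-basis of divided monomials. -/
noncomputable def dpBasis : Module.Basis (σ →₀ ℕ) ℤ (dpSubring σ) :=
  Module.Basis.mk (linearIndependent_dpMon σ) (span_dpMon σ)

lemma dpBasis_apply (e : σ →₀ ℕ) : dpBasis σ e = dpMon σ e := by
  rw [dpBasis, Module.Basis.mk_apply]

end Model

section Lift

variable {σ : Type w} {C : Type v} [CommRing C] (c : σ → ℕ → C)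

/-- The value of the lift on divided monomials. -/
def cpow (e : σ →₀ ℕ) : C := e.prod fun i n => c i n

lemma cpow_zero : cpow c 0 = 1 := by
  simp [cpow]

variable (hc0 : ∀ i, c i 0 = 1)
  (hcmul : ∀ i n m, c i n * c i m = ((n + m).choose n : C) * c i (n + m))

include hc0 in
lemma cpow_eq_prod (e : σ →₀ ℕ) (s : Finset σ) (hs : e.support ⊆ s) :
    cpow c e = ∏ i ∈ s, c i (e i) :=
  Finsupp.prod_of_support_subset _ hs _ (fun i _ => hc0 i)

include hc0 in
lemma cpow_single [DecidableEq σ] (i : σ) (n : ℕ) : cpow c (Finsupp.single i n) = c i n := by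
  rw [cpow, Finsupp.prod_single_index (hc0 i)]

include hc0 hcmul in
lemma cpow_mul (a b : σ →₀ ℕ) :
    cpow c a * cpow c b = (echoose a b : C) * cpow c (a + b) := by
  classical
  have hs : (a + b).support ⊆ a.support ∪ b.support := Finsupp.support_add
  rw [cpow_eq_prod c hc0 (a + b) _ hs, cpow_eq_prod c hc0 a _ Finset.subset_union_left,
    cpow_eq_prod c hc0 b _ Finset.subset_union_right,
    echoose_eq_prod a b _ Finset.subset_union_left Finset.subset_union_right,
    Nat.cast_prod, ← Finset.prod_mul_distrib, ← Finset.prod_mul_distrib]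
  refine Finset.prod_congr rfl fun i _ => ?_
  rw [Finsupp.add_apply]
  exact hcmul i (a i) (b i)

/-- The `ℤ`-linear map underlying the lift. -/
noncomputable def dpLiftLin : dpSubring σ →ₗ[ℤ] C := (dpBasis σ).constr ℤ (cpow c)

lemma dpLiftLin_dpMon (e : σ →₀ ℕ) : dpLiftLin c (dpMon σ e) = cpow c e := by
  rw [← dpBasis_apply, dpLiftLin, Module.Basis.constr_basis]

include hc0 hcmul in
lemma dpLiftLin_mul (f g : dpSubring σ) :
    dpLiftLin c (f * g) = dpLiftLin c f * dpLiftLin c g := by
  have h : (LinearMap.mul ℤ (dpSubring σ)).compr₂ (dpLiftLin c) =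
      (LinearMap.mul ℤ C).compl₁₂ (dpLiftLin c) (dpLiftLin c) := by
    apply (dpBasis σ).ext
    intro a
    apply (dpBasis σ).ext
    intro b
    simp only [LinearMap.compr₂_apply, LinearMap.mul_apply', LinearMap.compl₁₂_apply,
      dpBasis_apply]
    rw [dpMon_mul, ← nsmul_eq_mul, map_nsmul, dpLiftLin_dpMon, dpLiftLin_dpMon, dpLiftLin_dpMon,
      cpow_mul c hc0 hcmul, nsmul_eq_mul]
  exact LinearMap.congr_fun₂ h f g

include hc0 hcmul in
/-- The ring homomorphism out of the integral divided power polynomial ring determined by a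
family `c i n` of "divided powers". -/
noncomputable def dpLift : dpSubring σ →+* C where
  toFun := dpLiftLin c
  map_one' := by rw [← dpMon_zero, dpLiftLin_dpMon, cpow_zero]
  map_mul' := dpLiftLin_mul c hc0 hcmul
  map_zero' := map_zero _
  map_add' := map_add _

lemma dpLift_dpMon (e : σ →₀ ℕ) : dpLift c hc0 hcmul (dpMon σ e) = cpow c e :=
  dpLiftLin_dpMon c e

lemma dpLift_single [DecidableEq σ] (i : σ) (n : ℕ) :
    dpLift c hc0 hcmul (dpMon σ (Finsupp.single i n)) = c i n := by
  rw [dpLift_dpMon, cpow_single c hc0]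

/-- Two ring homomorphisms out of the model agreeing on divided monomials are equal. -/
lemma dpHom_ext {φ ψ : dpSubring σ →+* C} (h : ∀ e, φ (dpMon σ e) = ψ (dpMon σ e)) : φ = ψ := by
  apply RingHom.ext
  intro f
  obtain ⟨z, hz⟩ := exists_repr σ f
  rw [hz, map_sum, map_sum]
  refine Finset.sum_congr rfl fun e _ => ?_
  rw [map_zsmul, map_zsmul, h]

end Lift

section Prod

variable (σ : Type w) [DecidableEq σ]

lemma dpMon_single_zero (i : σ) : dpMon σ (Finsupp.single i 0) = 1 := by
  rw [Finsupp.single_zero, dpMon_zero]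

lemma dpMon_single_mul (i : σ) (n m : ℕ) :
    dpMon σ (Finsupp.single i n) * dpMon σ (Finsupp.single i m) =
      ((n + m).choose n : dpSubring σ) * dpMon σ (Finsupp.single i (n + m)) := by
  rw [dpMon_mul, echoose_single, Finsupp.single_add]

/-- A divided monomial is the product of the one-variable divided monomials. -/
lemma dpMon_eq_prod (e : σ →₀ ℕ) :
    dpMon σ e = e.prod fun i n => dpMon σ (Finsupp.single i n) := by
  induction e using Finsupp.induction with
  | zero => rw [Finsupp.prod_zero_index, dpMon_zero]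
  | single_add i n e hi hn ih =>
    have hd : Disjoint (Finsupp.single i n).support e.support := by
      rw [Finsupp.support_single _ hn, Finset.disjoint_singleton_left]
      exact hi
    rw [Finsupp.prod_add_index_of_disjoint hd, ← ih,
      Finsupp.prod_single_index (dpMon_single_zero σ i), dpMon_mul, echoose_of_disjoint _ _ hd,
      Nat.cast_one, one_mul]

end Prod

section DPStructure

variable (σ : Type w)

/-- The augmentation ideal of the integral divided power polynomial ring. -/
noncomputable def dpAug : Ideal (dpSubring σ) :=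
  RingHom.ker ((constantCoeff : MvPolynomial σ ℚ →+* ℚ).comp (dpSubring σ).subtype)

lemma mem_dpAug {f : dpSubring σ} : f ∈ dpAug σ ↔ coeff 0 (f : MvPolynomial σ ℚ) = 0 := by
  rw [dpAug, RingHom.mem_ker, RingHom.comp_apply, constantCoeff_eq]
  rfl

lemma dpMon_mem_dpAug {e : σ →₀ ℕ} (he : e ≠ 0) : dpMon σ e ∈ dpAug σ := by
  classical
  rw [mem_dpAug, coeff_dpMon, if_neg he]

variable {σ}

/-- `g^n / n!`. -/
noncomputable def qpow (n : ℕ) (g : MvPolynomial σ ℚ) : MvPolynomial σ ℚ :=
  ((n.factorial : ℚ)⁻¹) • g ^ n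

open Classical in
/-- The divided power structure on the unit ideal of `ℚ[X]`. -/
noncomputable def qdp : DividedPowers (⊤ : Ideal (MvPolynomial σ ℚ)) :=
  DividedPowers.RatAlgebra.dividedPowers ⊤

lemma qdp_dpow (n : ℕ) (g : MvPolynomial σ ℚ) : (qdp (σ := σ)).dpow n g = qpow n g := by
  rw [DividedPowers.RatAlgebra.dpow_eq_inv_fact_smul _ qdp Submodule.mem_top,
    Ring.inverse_eq_inv']
  rfl

lemma qpow_zero (g : MvPolynomial σ ℚ) : qpow 0 g = 1 := by
  rw [← qdp_dpow, qdp.dpow_zero Submodule.mem_top]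

lemma qpow_one (g : MvPolynomial σ ℚ) : qpow 1 g = g := by
  rw [← qdp_dpow, qdp.dpow_one Submodule.mem_top]

lemma qpow_add (n : ℕ) (g h : MvPolynomial σ ℚ) :
    qpow n (g + h) = ∑ k ∈ antidiagonal n, qpow k.1 g * qpow k.2 h := by
  rw [← qdp_dpow, qdp.dpow_add Submodule.mem_top Submodule.mem_top]
  simp_rw [qdp_dpow]

lemma qpow_mul (n : ℕ) (a g : MvPolynomial σ ℚ) : qpow n (a * g) = a ^ n * qpow n g := by
  rw [← qdp_dpow, qdp.dpow_mul Submodule.mem_top, qdp_dpow]

lemma qpow_mul_qpow (m n : ℕ) (g : MvPolynomial σ ℚ) :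
    qpow m g * qpow n g = ((m + n).choose m : MvPolynomial σ ℚ) * qpow (m + n) g := by
  rw [← qdp_dpow, ← qdp_dpow, qdp.mul_dpow Submodule.mem_top, qdp_dpow]

lemma qpow_comp (m : ℕ) {n : ℕ} (hn : n ≠ 0) (g : MvPolynomial σ ℚ) :
    qpow m (qpow n g) = (Nat.uniformBell m n : MvPolynomial σ ℚ) * qpow (m * n) g := by
  rw [← qdp_dpow, ← qdp_dpow, qdp.dpow_comp hn Submodule.mem_top, qdp_dpow]

lemma qpow_eval_zero {n : ℕ} (hn : n ≠ 0) : qpow n (0 : MvPolynomial σ ℚ) = 0 := by
  rw [qpow, zero_pow hn, smul_zero]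

lemma coeff_zero_qpow {n : ℕ} (hn : n ≠ 0) {g : MvPolynomial σ ℚ} (hg : coeff 0 g = 0) :
    coeff 0 (qpow n g) = 0 := by
  rw [← constantCoeff_eq] at hg ⊢
  rw [qpow, MvPolynomial.smul_eq_C_mul, map_mul, map_pow, hg, zero_pow hn, mul_zero]

lemma qpow_monomial_mem (e : σ →₀ ℕ) (he : e ≠ 0) (c : ℚ)
    (hc : (efact e : ℚ) * c ∈ (Int.castRingHom ℚ).range) (n : ℕ) :
    qpow n (monomial e c) ∈ dpSubring σ := by
  rw [qpow, monomial_pow, smul_monomial]
  apply monomial_mem_dpSubring
  obtain ⟨K, hK⟩ := efact_pow_mul_dvd e he n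
  have h : (efact (n • e) : ℚ) * ((n.factorial : ℚ)⁻¹ • c ^ n) =
      (K : ℚ) * ((efact e : ℚ) * c) ^ n := by
    have hn : (n.factorial : ℚ) ≠ 0 := by exact_mod_cast n.factorial_ne_zero
    rw [hK, smul_eq_mul]
    push_cast
    field_simp
    ring
  rw [h]
  exact Subring.mul_mem _ (natCast_mem _ _) (Subring.pow_mem _ hc n)

lemma qpow_mem {f : MvPolynomial σ ℚ} (hf : f ∈ dpSubring σ) (h0 : coeff 0 f = 0) (n : ℕ) :
    qpow n f ∈ dpSubring σ := by
  classical
  have hP : ∀ s : Finset (σ →₀ ℕ), (∀ e ∈ s, e ≠ 0) →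
      ∀ n, qpow n (∑ e ∈ s, monomial e (coeff e f)) ∈ dpSubring σ := by
    intro s
    induction s using Finset.induction_on with
    | empty =>
      intro _ n
      rw [Finset.sum_empty]
      rcases Nat.eq_zero_or_pos n with rfl | hn
      · rw [qpow_zero]
        exact Subring.one_mem _
      · rw [qpow_eval_zero hn.ne']
        exact Subring.zero_mem _
    | insert a s ha ih =>
      intro hs n
      rw [Finset.sum_insert ha, qpow_add]
      refine Subring.sum_mem _ fun k _ => Subring.mul_mem _ ?_ ?_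
      · exact qpow_monomial_mem a (hs a (Finset.mem_insert_self _ _)) _ (hf a) _
      · exact ih (fun e he => hs e (Finset.mem_insert_of_mem he)) _
  have h := hP f.support (fun e he he0 => by
    rw [he0] at he
    exact (MvPolynomial.mem_support_iff.mp he) h0) n
  rwa [support_sum_monomial_coeff] at h

variable (σ)

open Classical in
/-- The divided power operations on the model. -/
noncomputable def dpowZ (n : ℕ) (f : dpSubring σ) : dpSubring σ :=
  if h : f ∈ dpAug σ then ⟨qpow n f, qpow_mem f.2 ((mem_dpAug σ).mp h) n⟩ else 0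

variable {σ}

lemma dpowZ_val {f : dpSubring σ} (h : f ∈ dpAug σ) (n : ℕ) :
    (dpowZ σ n f : MvPolynomial σ ℚ) = qpow n (f : MvPolynomial σ ℚ) := by
  rw [dpowZ, dif_pos h]

lemma dpowZ_mem {f : dpSubring σ} (h : f ∈ dpAug σ) {n : ℕ} (hn : n ≠ 0) :
    dpowZ σ n f ∈ dpAug σ := by
  rw [mem_dpAug, dpowZ_val h]
  exact coeff_zero_qpow hn ((mem_dpAug σ).mp h)

variable (σ)

/-- The divided power structure on the augmentation ideal of `ℤ⟨X_i⟩`. -/
noncomputable def dpPlus : DividedPowers (dpAug σ) where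
  dpow := dpowZ σ
  dpow_null := fun {n x} h => by rw [dpowZ, dif_neg h]
  dpow_zero := fun {x} h => by
    apply Subtype.ext
    rw [dpowZ_val h, qpow_zero]
    rfl
  dpow_one := fun {x} h => by
    apply Subtype.ext
    rw [dpowZ_val h, qpow_one]
  dpow_mem := fun {n x} hn h => dpowZ_mem h hn
  dpow_add := fun {n x y} hx hy => by
    apply Subtype.ext
    rw [dpowZ_val ((dpAug σ).add_mem hx hy), AddSubmonoidClass.coe_finsetSum, Subring.coe_add,
      qpow_add]
    refine Finset.sum_congr rfl fun k _ => ?_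
    rw [Subring.coe_mul, dpowZ_val hx, dpowZ_val hy]
  dpow_mul := fun {n a x} hx => by
    apply Subtype.ext
    rw [dpowZ_val ((dpAug σ).mul_mem_left a hx), Subring.coe_mul, Subring.coe_mul, qpow_mul,
      Subring.coe_pow, dpowZ_val hx]
  mul_dpow := fun {m n x} hx => by
    apply Subtype.ext
    rw [Subring.coe_mul, Subring.coe_mul, dpowZ_val hx, dpowZ_val hx, dpowZ_val hx,
      qpow_mul_qpow, Subring.coe_natCast]
  dpow_comp := fun {m n x} hn hx => by
    apply Subtype.ext
    rw [dpowZ_val (dpowZ_mem hx hn), dpowZ_val hx, Subring.coe_mul, dpowZ_val hx,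
      qpow_comp m hn, Subring.coe_natCast]

lemma dpPlus_dpow_val {f : dpSubring σ} (h : f ∈ dpAug σ) (n : ℕ) :
    ((dpPlus σ).dpow n f : MvPolynomial σ ℚ) = qpow n (f : MvPolynomial σ ℚ) :=
  dpowZ_val h n

/-- `γ_n(X_i) = X_i^[n]`. -/
lemma dpPlus_dpow_X [DecidableEq σ] (i : σ) (n : ℕ) :
    (dpPlus σ).dpow n (dpMon σ (Finsupp.single i 1)) = dpMon σ (Finsupp.single i n) := by
  have h1 : dpMon σ (Finsupp.single i 1) ∈ dpAug σ := dpMon_mem_dpAug σ (by simp)
  apply Subtype.ext
  rw [dpPlus_dpow_val σ h1, dpMon_val, dpMon_val, qpow, monomial_pow, smul_monomial,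
    efact_single, efact_single, Finsupp.smul_single, smul_eq_mul, mul_one, Nat.factorial_one,
    Nat.cast_one, inv_one, one_pow, smul_eq_mul, mul_one]

/-- Induction principle for the augmentation ideal. -/
lemma dpAug_induction {P : dpSubring σ → Prop} (h0 : P 0)
    (hadd : ∀ f g, f ∈ dpAug σ → g ∈ dpAug σ → P f → P g → P (f + g))
    (hmon : ∀ (z : ℤ) (e : σ →₀ ℕ), e ≠ 0 → P (z • dpMon σ e)) :
    ∀ f ∈ dpAug σ, P f := by
  classical
  intro f hf
  obtain ⟨z, hz⟩ := exists_repr σ f
  have hsupp : ∀ e ∈ (f : MvPolynomial σ ℚ).support, e ≠ 0 := by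
    intro e he he0
    rw [he0] at he
    exact (MvPolynomial.mem_support_iff.mp he) ((mem_dpAug σ).mp hf)
  have hP : ∀ s : Finset (σ →₀ ℕ), (∀ e ∈ s, e ≠ 0) →
      (∑ e ∈ s, z e • dpMon σ e) ∈ dpAug σ ∧ P (∑ e ∈ s, z e • dpMon σ e) := by
    intro s
    induction s using Finset.induction_on with
    | empty =>
      intro _
      rw [Finset.sum_empty]
      exact ⟨(dpAug σ).zero_mem, h0⟩
    | insert a s ha ih =>
      intro hs
      rw [Finset.sum_insert ha]
      have h1 := ih (fun e he => hs e (Finset.mem_insert_of_mem he))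
      have ha0 := hs a (Finset.mem_insert_self _ _)
      have h2 : z a • dpMon σ a ∈ dpAug σ := by
        rw [zsmul_eq_mul]
        exact (dpAug σ).mul_mem_left _ (dpMon_mem_dpAug σ ha0)
      exact ⟨(dpAug σ).add_mem h2 h1.1, hadd _ _ h2 h1.1 (hmon _ _ ha0) h1.2⟩
  rw [hz]
  exact (hP _ hsupp).2

/-- The augmentation ideal is generated by the `X_i^[n]`, `n ≥ 1`. -/
lemma dpAug_eq_span [DecidableEq σ] :
    dpAug σ = Ideal.span {y | ∃ (i : σ) (n : ℕ), 1 ≤ n ∧ y = dpMon σ (Finsupp.single i n)} := by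
  apply le_antisymm
  · intro f hf
    refine dpAug_induction σ (P := fun f => f ∈ Ideal.span
      {y | ∃ (i : σ) (n : ℕ), 1 ≤ n ∧ y = dpMon σ (Finsupp.single i n)}) (Ideal.zero_mem _)
      (fun f g _ _ hf hg => Ideal.add_mem _ hf hg) ?_ f hf
    intro z e he
    rw [zsmul_eq_mul]
    refine Ideal.mul_mem_left _ _ ?_
    obtain ⟨i0, hi0⟩ : ∃ i, i ∈ e.support := by
      by_contra h
      push Not at h
      exact he (Finsupp.support_eq_empty.mp (Finset.eq_empty_of_forall_notMem h))
    rw [dpMon_eq_prod, Finsupp.prod, ← Finset.mul_prod_erase _ _ hi0]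
    refine Ideal.mul_mem_right _ _ (Ideal.subset_span ⟨i0, e i0, ?_, rfl⟩)
    exact Nat.one_le_iff_ne_zero.mpr (Finsupp.mem_support_iff.mp hi0)
  · rw [Ideal.span_le]
    rintro _ ⟨i, n, hn, rfl⟩
    refine dpMon_mem_dpAug σ ?_
    intro h
    have := Finsupp.single_eq_zero.mp h
    omega

end DPStructure

end Groth.Agent.Lib.Helper6.DP
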