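import Mathlib.RingTheory.DividedPowers.RatAlgebra
import Mathlib.RingTheory.DividedPowers.DPMorphism
import Mathlib.Algebra.MvPolynomial.CommRing
import Mathlib.LinearAlgebra.Basis.Basic
import Mathlib.LinearAlgebra.Finsupp.LinearCombination
import Mathlib.LinearAlgebra.BilinearMap
import Mathlib.Algebra.Algebra.Bilinear
import Mathlib.Combinatorics.Enumerative.Bell
import Mathlib.Tactic
import Groth.Agent.Lib.Helper6.DP.ZModel

/-!
# Divided power structures from generators (helper6)

If a family of maps `d n : A → A` satisfies all axioms of a divided power structure on `I` except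
that the product rule and the composition rule are only known on a generating set of `I`, then it
is a divided power structure.  The proof uses the integral divided power polynomial ring in two
variables as a universal model.
-/

set_option autoImplicit false
set_option linter.unusedSectionVars false
set_option linter.unusedVariables false
set_option linter.unusedSimpArgs false
set_option linter.style.haveILetI false
set_option maxHeartbeats 400000
universe u v w

namespace Groth.Agent.Lib.Helper6.DP

open Finset

section FromGens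

variable {A : Type u} [CommRing A] (I : Ideal A) (d : ℕ → A → A)

/-- The product rule at `x`. -/
def MulD (x : A) : Prop := ∀ m n, d m x * d n x = ((m + n).choose m : A) * d (m + n) x

/-- The composition rule at `x`. -/
def CompD (x : A) : Prop :=
  ∀ m n, n ≠ 0 → d m (d n x) = (Nat.uniformBell m n : A) * d (m * n) x

variable (h_zero : ∀ x ∈ I, d 0 x = 1) (h_one : ∀ x ∈ I, d 1 x = x)
  (h_mem : ∀ (n : ℕ) (x : A), n ≠ 0 → x ∈ I → d n x ∈ I)
  (h_add : ∀ (n : ℕ) (x y : A), x ∈ I → y ∈ I →
      d n (x + y) = (antidiagonal n).sum fun k => d k.1 x * d k.2 y)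
  (h_mul : ∀ (n : ℕ) (a x : A), x ∈ I → d n (a * x) = a ^ n * d n x)

include h_mul in
lemma d_eval_zero {m : ℕ} (hm : m ≠ 0) : d m 0 = 0 := by
  have := h_mul m 0 0 I.zero_mem
  rwa [zero_mul, zero_pow hm, zero_mul] at this

section Family

variable {σ : Type w} (x : σ → A) (hx : ∀ i, x i ∈ I) (hm : ∀ i, MulD d (x i))

/-- The ring homomorphism from the universal model attached to a family of elements of `I`
satisfying the product rule. -/
noncomputable def famLift : dpSubring σ →+* A :=
  dpLift (fun i n => d n (x i)) (fun i => h_zero _ (hx i)) (fun i n m => hm i n m)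

lemma famLift_single [DecidableEq σ] (i : σ) (n : ℕ) :
    famLift I d h_zero x hx hm (dpMon σ (Finsupp.single i n)) = d n (x i) :=
  dpLift_single _ _ _ i n

include h_one in
lemma famLift_X [DecidableEq σ] (i : σ) :
    famLift I d h_zero x hx hm (dpMon σ (Finsupp.single i 1)) = x i := by
  rw [famLift_single, h_one _ (hx i)]

lemma famLift_dpow_X [DecidableEq σ] (i : σ) (n : ℕ) :
    famLift I d h_zero x hx hm ((dpPlus σ).dpow n (dpMon σ (Finsupp.single i 1))) =
      d n (x i) := by
  rw [dpPlus_dpow_X, famLift_single]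

include h_mem h_add h_mul in
/-- The lift is compatible with divided powers, provided the composition rule holds for the
members of the family. -/
lemma famLift_dpow (hc : ∀ i, CompD d (x i)) :
    ∀ f ∈ dpAug σ, famLift I d h_zero x hx hm f ∈ I ∧
      ∀ m, famLift I d h_zero x hx hm ((dpPlus σ).dpow m f) =
        d m (famLift I d h_zero x hx hm f) := by
  classical
  refine dpAug_induction σ (P := fun f => famLift I d h_zero x hx hm f ∈ I ∧
      ∀ m, famLift I d h_zero x hx hm ((dpPlus σ).dpow m f) =
        d m (famLift I d h_zero x hx hm f)) ?_ ?_ ?_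
  · refine ⟨by rw [map_zero]; exact I.zero_mem, fun m => ?_⟩
    rw [map_zero]
    rcases Nat.eq_zero_or_pos m with rfl | hm0
    · rw [(dpPlus σ).dpow_zero (dpAug σ).zero_mem, map_one, h_zero _ I.zero_mem]
    · rw [(dpPlus σ).dpow_eval_zero hm0.ne', map_zero, d_eval_zero I d h_mul hm0.ne']
  · rintro f g hf hg ⟨hfI, hfd⟩ ⟨hgI, hgd⟩
    refine ⟨by rw [map_add]; exact I.add_mem hfI hgI, fun m => ?_⟩
    rw [(dpPlus σ).dpow_add hf hg, map_sum, map_add, h_add m _ _ hfI hgI]
    refine Finset.sum_congr rfl fun k _ => ?_
    rw [map_mul, hfd, hgd]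
  · intro z e he
    obtain ⟨i0, hi0⟩ : ∃ i, i ∈ e.support := by
      by_contra h
      push Not at h
      exact he (Finsupp.support_eq_empty.mp (Finset.eq_empty_of_forall_notMem h))
    have hn : e i0 ≠ 0 := Finsupp.mem_support_iff.mp hi0
    have hv : dpMon σ (Finsupp.single i0 1) ∈ dpAug σ := dpMon_mem_dpAug σ (by simp)
    have hw : (dpPlus σ).dpow (e i0) (dpMon σ (Finsupp.single i0 1)) ∈ dpAug σ :=
      (dpPlus σ).dpow_mem hn hv
    have hdis : Disjoint (Finsupp.single i0 (e i0)).support (e.erase i0).support := by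
      rw [Finsupp.support_single _ hn, Finset.disjoint_singleton_left, Finsupp.support_erase]
      exact Finset.notMem_erase _ _
    have hdecomp : z • dpMon σ e = ((z : dpSubring σ) * dpMon σ (e.erase i0)) *
        (dpPlus σ).dpow (e i0) (dpMon σ (Finsupp.single i0 1)) := by
      rw [dpPlus_dpow_X, zsmul_eq_mul, mul_assoc]
      congr 1
      rw [mul_comm, dpMon_mul, echoose_of_disjoint _ _ hdis, Nat.cast_one, one_mul,
        Finsupp.single_add_erase]
    have hφw : famLift I d h_zero x hx hm
        ((dpPlus σ).dpow (e i0) (dpMon σ (Finsupp.single i0 1))) = d (e i0) (x i0) :=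
      famLift_dpow_X I d h_zero x hx hm i0 (e i0)
    have hdI : d (e i0) (x i0) ∈ I := h_mem _ _ hn (hx i0)
    have hR : famLift I d h_zero x hx hm (((z : dpSubring σ) * dpMon σ (e.erase i0)) *
        (dpPlus σ).dpow (e i0) (dpMon σ (Finsupp.single i0 1))) =
        famLift I d h_zero x hx hm ((z : dpSubring σ) * dpMon σ (e.erase i0)) *
          d (e i0) (x i0) := by
      rw [map_mul, hφw]
    rw [hdecomp]
    refine ⟨?_, fun m => ?_⟩
    · rw [hR]
      exact I.mul_mem_left _ hdI
    · rw [hR, h_mul m _ _ hdI, hc i0 m (e i0) hn, (dpPlus σ).dpow_mul hw,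
        (dpPlus σ).dpow_comp hn hv]
      simp only [map_mul, map_pow, map_natCast, famLift_dpow_X]

end Family

section Closure

variable {x y : A} (hx : x ∈ I) (hy : y ∈ I)

include h_zero in
lemma mulD_zero (h_mul : ∀ (n : ℕ) (a x : A), x ∈ I → d n (a * x) = a ^ n * d n x) :
    MulD d 0 := by
  intro m n
  by_cases h : m + n = 0
  · obtain ⟨rfl, rfl⟩ : m = 0 ∧ n = 0 := by omega
    simp [h_zero 0 I.zero_mem]
  · rw [d_eval_zero I d h_mul h, mul_zero]
    rcases Nat.eq_zero_or_pos m with rfl | hm
    · have hn : n ≠ 0 := by omega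
      rw [d_eval_zero I d h_mul hn, mul_zero]
    · rw [d_eval_zero I d h_mul hm.ne', zero_mul]

include h_zero in
lemma compD_zero (h_mul : ∀ (n : ℕ) (a x : A), x ∈ I → d n (a * x) = a ^ n * d n x) :
    CompD d 0 := by
  intro m n hn
  rw [d_eval_zero I d h_mul hn]
  rcases Nat.eq_zero_or_pos m with rfl | hm
  · rw [zero_mul, h_zero 0 I.zero_mem, Nat.uniformBell_zero_left, Nat.cast_one, one_mul]
  · rw [d_eval_zero I d h_mul hm.ne', d_eval_zero I d h_mul (Nat.mul_ne_zero hm.ne' hn), mul_zero]

include hx h_mul in
lemma mulD_smul (hmx : MulD d x) (a : A) : MulD d (a * x) := by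
  intro m n
  rw [h_mul _ _ _ hx, h_mul _ _ _ hx, h_mul _ _ _ hx]
  calc a ^ m * d m x * (a ^ n * d n x) = a ^ (m + n) * (d m x * d n x) := by ring
    _ = ((m + n).choose m : A) * (a ^ (m + n) * d (m + n) x) := by rw [hmx m n]; ring

include hx h_mul h_mem in
lemma compD_smul (hcx : CompD d x) (a : A) : CompD d (a * x) := by
  intro m n hn
  rw [h_mul n a x hx, h_mul m (a ^ n) (d n x) (h_mem n x hn hx), hcx m n hn,
    h_mul (m * n) a x hx]
  ring

include hx hy h_zero h_add in
lemma mulD_add (hmx : MulD d x) (hmy : MulD d y) : MulD d (x + y) := by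
  classical
  have hxy : ∀ b : Bool, cond b y x ∈ I := by
    intro b
    cases b
    · exact hx
    · exact hy
  have hmxy : ∀ b : Bool, MulD d (cond b y x) := by
    intro b
    cases b
    · exact hmx
    · exact hmy
  have h1 : dpMon Bool (Finsupp.single false 1) ∈ dpAug Bool := dpMon_mem_dpAug Bool (by simp)
  have h2 : dpMon Bool (Finsupp.single true 1) ∈ dpAug Bool := dpMon_mem_dpAug Bool (by simp)
  have hs : ∀ n, famLift I d h_zero (fun b : Bool => cond b y x) hxy hmxy
      ((dpPlus Bool).dpow n (dpMon Bool (Finsupp.single false 1) +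
        dpMon Bool (Finsupp.single true 1))) = d n (x + y) := by
    intro n
    rw [(dpPlus Bool).dpow_add h1 h2, map_sum, h_add n x y hx hy]
    refine Finset.sum_congr rfl fun k _ => ?_
    rw [map_mul, famLift_dpow_X, famLift_dpow_X]
    rfl
  intro m n
  rw [← hs m, ← hs n, ← hs (m + n), ← map_mul,
    (dpPlus Bool).mul_dpow ((dpAug Bool).add_mem h1 h2), map_mul, map_natCast]

include hx hy h_zero h_one h_mem h_add h_mul in
lemma compD_add (hmx : MulD d x) (hmy : MulD d y) (hcx : CompD d x) (hcy : CompD d y) :
    CompD d (x + y) := by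
  classical
  have hxy : ∀ b : Bool, cond b y x ∈ I := by
    intro b
    cases b
    · exact hx
    · exact hy
  have hmxy : ∀ b : Bool, MulD d (cond b y x) := by
    intro b
    cases b
    · exact hmx
    · exact hmy
  have hcxy : ∀ b : Bool, CompD d (cond b y x) := by
    intro b
    cases b
    · exact hcx
    · exact hcy
  have h1 : dpMon Bool (Finsupp.single false 1) ∈ dpAug Bool := dpMon_mem_dpAug Bool (by simp)
  have h2 : dpMon Bool (Finsupp.single true 1) ∈ dpAug Bool := dpMon_mem_dpAug Bool (by simp)
  have hs := (dpAug Bool).add_mem h1 h2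
  have Q := famLift_dpow I d h_zero h_mem h_add h_mul (fun b : Bool => cond b y x) hxy hmxy hcxy
  have hφs : famLift I d h_zero (fun b : Bool => cond b y x) hxy hmxy
      (dpMon Bool (Finsupp.single false 1) + dpMon Bool (Finsupp.single true 1)) = x + y := by
    rw [map_add, famLift_X I d h_zero h_one, famLift_X I d h_zero h_one]
    rfl
  intro m n hn
  have e1 := (Q _ hs).2 n
  have e2 := (Q _ ((dpPlus Bool).dpow_mem hn hs)).2 m
  have e3 := (Q _ hs).2 (m * n)
  rw [hφs] at e1 e3
  rw [← e1, ← e2, (dpPlus Bool).dpow_comp hn hs, map_mul, map_natCast, e3]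

end Closure

include h_zero h_one h_mem h_add h_mul in
/-- A family of maps satisfying the divided power axioms, with the product and composition rules
only assumed on a generating set, is a divided power structure. -/
theorem dividedPowers_of_gens (S : Set A) (hS : Ideal.span S = I)
    (h_null : ∀ (n : ℕ) (x : A), x ∉ I → d n x = 0)
    (h_mul_dpow : ∀ (m n : ℕ) (x : A), x ∈ S → d m x * d n x = (m + n).choose m * d (m + n) x)
    (h_comp : ∀ (m n : ℕ) (x : A), n ≠ 0 → x ∈ S →
      d m (d n x) = Nat.uniformBell m n * d (m * n) x) :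
    ∃ γ : DividedPowers I, γ.dpow = d := by
  have hall : ∀ x ∈ I, MulD d x := by
    intro x hx
    rw [← hS] at hx
    have h : x ∈ I ∧ MulD d x := by
      induction hx using Submodule.span_induction with
      | mem x hxS => exact ⟨hS ▸ Ideal.subset_span hxS, fun m n => h_mul_dpow m n x hxS⟩
      | zero => exact ⟨I.zero_mem, mulD_zero I d h_zero h_mul⟩
      | add x y _ _ ihx ihy =>
        exact ⟨I.add_mem ihx.1 ihy.1, mulD_add I d h_zero h_add ihx.1 ihy.1 ihx.2 ihy.2⟩
      | smul a x _ ih =>
        exact ⟨I.mul_mem_left a ih.1, mulD_smul I d h_mul ih.1 ih.2 a⟩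
    exact h.2
  have hcall : ∀ x ∈ I, CompD d x := by
    intro x hx
    rw [← hS] at hx
    have h : x ∈ I ∧ CompD d x := by
      induction hx using Submodule.span_induction with
      | mem x hxS => exact ⟨hS ▸ Ideal.subset_span hxS, fun m n hn => h_comp m n x hn hxS⟩
      | zero => exact ⟨I.zero_mem, compD_zero I d h_zero h_mul⟩
      | add x y _ _ ihx ihy =>
        exact ⟨I.add_mem ihx.1 ihy.1, compD_add I d h_zero h_one h_mem h_add h_mul ihx.1 ihy.1
          (hall _ ihx.1) (hall _ ihy.1) ihx.2 ihy.2⟩
      | smul a x _ ih =>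
        exact ⟨I.mul_mem_left a ih.1, compD_smul I d h_mem h_mul ih.1 ih.2 a⟩
    exact h.2
  exact ⟨{ dpow := d
           dpow_null := fun {n x} h => h_null n x h
           dpow_zero := fun {x} h => h_zero x h
           dpow_one := fun {x} h => h_one x h
           dpow_mem := fun {n x} hn h => h_mem n x hn h
           dpow_add := fun {n x y} hx hy => h_add n x y hx hy
           dpow_mul := fun {n a x} hx => h_mul n a x hx
           mul_dpow := fun {m n x} hx => hall x hx m n
           dpow_comp := fun {m n x} hn hx => hcall x hx m n hn }, rfl⟩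

end FromGens

end Groth.Agent.Lib.Helper6.DP
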