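import Mathlib.RingTheory.DividedPowers.RatAlgebra
import Mathlib.RingTheory.DividedPowers.DPMorphism
import Mathlib.RingTheory.PowerSeries.Basic
import Mathlib.Tactic
import Groth.Agent.Lib.Helper6.DP.FromGens

/-!
# Divided powers on a sum of two ideals (helper6)

If `I` and `J` carry divided power structures agreeing on `I ⊓ J`, then `I ⊔ J` carries a unique
divided power structure restricting to the given ones.
-/

set_option autoImplicit false
set_option linter.unusedSectionVars false
set_option linter.unusedVariables false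
set_option linter.unusedSimpArgs false
set_option linter.style.haveILetI false
set_option maxHeartbeats 400000
universe u v w

namespace Groth.Agent.Lib.Helper6.DP

open Finset PowerSeries

section Exp

variable {A : Type u} [CommRing A] {I : Ideal A} (γ : DividedPowers I)

lemma exp_zero' : γ.exp 0 = 1 := by
  ext n
  rw [DividedPowers.exp, coeff_mk, coeff_one]
  split_ifs with h
  · rw [h, γ.dpow_zero I.zero_mem]
  · rw [γ.dpow_eval_zero h]

lemma coeff_exp (n : ℕ) (x : A) : coeff n (γ.exp x) = γ.dpow n x := by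
  rw [DividedPowers.exp, coeff_mk]

lemma exp_mul_left (a : A) {x : A} (hx : x ∈ I) : γ.exp (a * x) = rescale a (γ.exp x) := by
  ext n
  rw [coeff_rescale, coeff_exp, coeff_exp, γ.dpow_mul hx]

end Exp

section IdealAdd

variable {A : Type u} [CommRing A] {I J : Ideal A} (γ : DividedPowers I) (δ : DividedPowers J)
  (h : ∀ (n : ℕ) (x : A), x ∈ I ⊓ J → γ.dpow n x = δ.dpow n x)

include h in
lemma exp_mul_exp_eq {x x' y y' : A} (hx : x ∈ I) (hx' : x' ∈ I) (hy : y ∈ J) (hy' : y' ∈ J)
    (he : x + y = x' + y') : γ.exp x * δ.exp y = γ.exp x' * δ.exp y' := by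
  have huI : x - x' ∈ I := I.sub_mem hx hx'
  have huJ : x - x' ∈ J := by
    have : x - x' = y' - y := by linear_combination he
    rw [this]
    exact J.sub_mem hy' hy
  have hu : γ.exp (x - x') = δ.exp (x - x') := by
    ext n
    rw [coeff_exp, coeff_exp, h n _ ⟨huI, huJ⟩]
  have h1 : γ.exp x = γ.exp x' * γ.exp (x - x') := by
    rw [← γ.exp_add hx' huI]
    congr 1
    ring
  have h2 : δ.exp y' = δ.exp y * δ.exp (x - x') := by
    rw [← δ.exp_add hy huJ]
    congr 1
    linear_combination -he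
  rw [h1, h2, hu]
  ring

open Classical in
/-- The exponential series of the sum structure. -/
noncomputable def sumSeries (z : A) : PowerSeries A :=
  if hz : z ∈ I ⊔ J then
    γ.exp (Submodule.mem_sup.mp hz).choose * δ.exp (Submodule.mem_sup.mp hz).choose_spec.2.choose
  else 0

include h in
lemma sumSeries_eq {x y : A} (hx : x ∈ I) (hy : y ∈ J) :
    sumSeries γ δ (x + y) = γ.exp x * δ.exp y := by
  have hz : x + y ∈ I ⊔ J := Submodule.add_mem_sup hx hy
  rw [sumSeries, dif_pos hz]
  have h1 := (Submodule.mem_sup.mp hz).choose_spec.1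
  have h2 := (Submodule.mem_sup.mp hz).choose_spec.2.choose_spec.1
  have h3 := (Submodule.mem_sup.mp hz).choose_spec.2.choose_spec.2
  exact exp_mul_exp_eq γ δ h h1 hx h2 hy h3

lemma sumSeries_null {z : A} (hz : z ∉ I ⊔ J) : sumSeries γ δ z = 0 := by
  rw [sumSeries, dif_neg hz]

include h in
lemma sumSeries_left {x : A} (hx : x ∈ I) : sumSeries γ δ x = γ.exp x := by
  have := sumSeries_eq γ δ h hx J.zero_mem
  rwa [add_zero, exp_zero', mul_one] at this

include h in
lemma sumSeries_right {y : A} (hy : y ∈ J) : sumSeries γ δ y = δ.exp y := by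
  have := sumSeries_eq γ δ h I.zero_mem hy
  rwa [zero_add, exp_zero', one_mul] at this

include h in
lemma sumSeries_add {z w : A} (hz : z ∈ I ⊔ J) (hw : w ∈ I ⊔ J) :
    sumSeries γ δ (z + w) = sumSeries γ δ z * sumSeries γ δ w := by
  obtain ⟨x, hx, y, hy, rfl⟩ := Submodule.mem_sup.mp hz
  obtain ⟨x', hx', y', hy', rfl⟩ := Submodule.mem_sup.mp hw
  have e : x + y + (x' + y') = (x + x') + (y + y') := by ring
  rw [e, sumSeries_eq γ δ h (I.add_mem hx hx') (J.add_mem hy hy'), sumSeries_eq γ δ h hx hy,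
    sumSeries_eq γ δ h hx' hy', γ.exp_add hx hx', δ.exp_add hy hy']
  ring

include h in
lemma sumSeries_mul (a : A) {z : A} (hz : z ∈ I ⊔ J) :
    sumSeries γ δ (a * z) = rescale a (sumSeries γ δ z) := by
  obtain ⟨x, hx, y, hy, rfl⟩ := Submodule.mem_sup.mp hz
  rw [mul_add, sumSeries_eq γ δ h (I.mul_mem_left a hx) (J.mul_mem_left a hy),
    sumSeries_eq γ δ h hx hy, map_mul, exp_mul_left γ a hx, exp_mul_left δ a hy]

/-- The divided power operations of the sum structure. -/
noncomputable def sumDpow (n : ℕ) (z : A) : A := coeff n (sumSeries γ δ z)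

include h in
lemma sumDpow_left {x : A} (hx : x ∈ I) (n : ℕ) : sumDpow γ δ n x = γ.dpow n x := by
  rw [sumDpow, sumSeries_left γ δ h hx, coeff_exp]

include h in
lemma sumDpow_right {y : A} (hy : y ∈ J) (n : ℕ) : sumDpow γ δ n y = δ.dpow n y := by
  rw [sumDpow, sumSeries_right γ δ h hy, coeff_exp]

include h in
/-- Existence of the divided power structure on `I ⊔ J`. -/
theorem exists_dividedPowers_sup :
    ∃ ε : DividedPowers (I ⊔ J), ε.dpow = sumDpow γ δ := by
  have hS : Ideal.span ((I : Set A) ∪ (J : Set A)) = I ⊔ J := by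
    rw [Ideal.span_union, Ideal.span_eq, Ideal.span_eq]
  refine dividedPowers_of_gens (I ⊔ J) (sumDpow γ δ) ?_ ?_ ?_ ?_ ?_ _ hS ?_ ?_ ?_
  · -- zero
    intro z hz
    obtain ⟨x, hx, y, hy, rfl⟩ := Submodule.mem_sup.mp hz
    rw [sumDpow, sumSeries_eq γ δ h hx hy, coeff_mul, Finset.Nat.antidiagonal_zero,
      Finset.sum_singleton, coeff_exp, coeff_exp, γ.dpow_zero hx, δ.dpow_zero hy, mul_one]
  · -- one
    intro z hz
    obtain ⟨x, hx, y, hy, rfl⟩ := Submodule.mem_sup.mp hz
    rw [sumDpow, sumSeries_eq γ δ h hx hy, coeff_mul,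
      Finset.Nat.sum_antidiagonal_eq_sum_range_succ_mk, Finset.sum_range_succ,
      Finset.sum_range_one]
    simp only [coeff_exp, Nat.sub_zero, Nat.sub_self]
    rw [γ.dpow_zero hx, δ.dpow_zero hy, γ.dpow_one hx, δ.dpow_one hy]
    ring
  · -- mem
    intro n z hn hz
    obtain ⟨x, hx, y, hy, rfl⟩ := Submodule.mem_sup.mp hz
    rw [sumDpow, sumSeries_eq γ δ h hx hy, coeff_mul]
    refine Ideal.sum_mem _ fun k hk => ?_
    rw [coeff_exp, coeff_exp]
    by_cases hk1 : k.1 = 0
    · have hk2 : k.2 ≠ 0 := by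
        have := Finset.mem_antidiagonal.mp hk
        omega
      exact Ideal.mul_mem_left _ _ (Ideal.mem_sup_right (δ.dpow_mem hk2 hy))
    · exact Ideal.mul_mem_right _ _ (Ideal.mem_sup_left (γ.dpow_mem hk1 hx))
  · -- add
    intro n z w hz hw
    rw [sumDpow, sumSeries_add γ δ h hz hw, coeff_mul]
    rfl
  · -- mul
    intro n a z hz
    rw [sumDpow, sumSeries_mul γ δ h a hz, coeff_rescale]
    rfl
  · -- null
    intro n z hz
    rw [sumDpow, sumSeries_null γ δ hz, map_zero]
  · -- mul_dpow on generators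
    intro m n z hz
    rcases hz with hz | hz
    · rw [sumDpow_left γ δ h hz, sumDpow_left γ δ h hz, sumDpow_left γ δ h hz, γ.mul_dpow hz]
    · rw [sumDpow_right γ δ h hz, sumDpow_right γ δ h hz, sumDpow_right γ δ h hz, δ.mul_dpow hz]
  · -- comp on generators
    intro m n z hn hz
    rcases hz with hz | hz
    · rw [sumDpow_left γ δ h hz, sumDpow_left γ δ h (γ.dpow_mem hn hz), sumDpow_left γ δ h hz,
        γ.dpow_comp hn hz]
    · rw [sumDpow_right γ δ h hz, sumDpow_right γ δ h (δ.dpow_mem hn hz),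
        sumDpow_right γ δ h hz, δ.dpow_comp hn hz]

include h in
/-- Divided powers on the sum of two ideals: existence and uniqueness. -/
theorem existsUnique_dividedPowers_sup :
    ∃! ε : DividedPowers (I ⊔ J),
      (∀ (n : ℕ) (x : A), x ∈ I → ε.dpow n x = γ.dpow n x) ∧
        (∀ (n : ℕ) (x : A), x ∈ J → ε.dpow n x = δ.dpow n x) := by
  obtain ⟨ε, hε⟩ := exists_dividedPowers_sup γ δ h
  refine ⟨ε, ⟨fun n x hx => by rw [hε, sumDpow_left γ δ h hx],
    fun n x hx => by rw [hε, sumDpow_right γ δ h hx]⟩, ?_⟩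
  rintro ε' ⟨h1, h2⟩
  have hS : I ⊔ J = Ideal.span ((I : Set A) ∪ (J : Set A)) := by
    rw [Ideal.span_union, Ideal.span_eq, Ideal.span_eq]
  refine DividedPowers.dpow_eq_from_gens ε ε' hS ?_
  intro n a ha
  rcases ha with ha | ha
  · rw [h1 n a ha, hε, sumDpow_left γ δ h ha]
  · rw [h2 n a ha, hε, sumDpow_right γ δ h ha]

end IdealAdd

end Groth.Agent.Lib.Helper6.DP
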