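import Mathlib.RingTheory.DividedPowers.RatAlgebra
import Mathlib.RingTheory.DividedPowers.DPMorphism
import Mathlib.RingTheory.PowerSeries.Basic
import Mathlib.RingTheory.Flat.Basic
import Mathlib.LinearAlgebra.TensorProduct.Basic
import Mathlib.Tactic
import Groth.Agent.Lib.Helper6.DP.FromGens
import Groth.Agent.Lib.Helper6.DP.IdealAdd

/-!
# Extension of divided powers along `A → B` when `I ⊗ B → B` is injective (helper6)
-/

set_option autoImplicit false
set_option linter.unusedSectionVars false
set_option linter.unusedVariables false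
set_option linter.unusedSimpArgs false
set_option linter.style.haveILetI false
set_option maxHeartbeats 400000
universe u v w

namespace Groth.Agent.Lib.Helper6.DP

open Finset PowerSeries TensorProduct

section Extend

variable {A : Type u} {B : Type v} [CommRing A] [CommRing B] [Algebra A B] {I : Ideal A}
  (γ : DividedPowers I)

/-- The canonical map `I ⊗ B → B`. -/
noncomputable def muMap (I : Ideal A) (B : Type v) [CommRing B] [Algebra A B] :
    ↥I ⊗[A] B →ₗ[A] B :=
  TensorProduct.lift ((LinearMap.lsmul A B).comp I.subtype)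

lemma muMap_tmul (x : I) (b : B) : muMap I B (x ⊗ₜ[A] b) = algebraMap A B x * b := by
  rw [muMap, TensorProduct.lift.tmul, LinearMap.comp_apply, LinearMap.lsmul_apply,
    Submodule.subtype_apply, Algebra.smul_def]

lemma muMap_mem (w : ↥I ⊗[A] B) : muMap I B w ∈ I.map (algebraMap A B) := by
  induction w using TensorProduct.induction_on with
  | zero => rw [map_zero]; exact Ideal.zero_mem _
  | tmul x b =>
    rw [muMap_tmul]
    exact Ideal.mul_mem_right _ _ (Ideal.mem_map_of_mem _ x.2)
  | add w w' hw hw' => rw [map_add]; exact Ideal.add_mem _ hw hw'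

/-- Multiplication by `c` on the right factor. -/
noncomputable def mulRight (I : Ideal A) (c : B) : ↥I ⊗[A] B →ₗ[A] ↥I ⊗[A] B :=
  LinearMap.lTensor ↥I (LinearMap.mulLeft A c)

lemma mulRight_tmul (c : B) (x : I) (b : B) : mulRight I c (x ⊗ₜ[A] b) = x ⊗ₜ[A] (c * b) := by
  rw [mulRight, LinearMap.lTensor_tmul, LinearMap.mulLeft_apply]

lemma muMap_mulRight (c : B) (w : ↥I ⊗[A] B) : muMap I B (mulRight I c w) = c * muMap I B w := by
  induction w using TensorProduct.induction_on with
  | zero => rw [map_zero, map_zero, mul_zero]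
  | tmul x b => rw [mulRight_tmul, muMap_tmul, muMap_tmul]; ring
  | add w w' hw hw' => rw [map_add, map_add, map_add, hw, hw', mul_add]

lemma exists_muMap_eq {z : B} (hz : z ∈ I.map (algebraMap A B)) : ∃ w, muMap I B w = z := by
  rw [Ideal.map] at hz
  induction hz using Submodule.span_induction with
  | mem z hz =>
    obtain ⟨x, hx, rfl⟩ := hz
    exact ⟨(⟨x, hx⟩ : I) ⊗ₜ[A] 1, by rw [muMap_tmul, mul_one]⟩
  | zero => exact ⟨0, map_zero _⟩
  | add z z' _ _ hz hz' =>
    obtain ⟨w, rfl⟩ := hz
    obtain ⟨w', rfl⟩ := hz'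
    exact ⟨w + w', map_add _ _ _⟩
  | smul c z _ hz =>
    obtain ⟨w, rfl⟩ := hz
    exact ⟨mulRight I c w, by rw [muMap_mulRight, smul_eq_mul]⟩

/-- The image in `B⟦X⟧` of the exponential series. -/
noncomputable def expB (x : A) : PowerSeries B := PowerSeries.map (algebraMap A B) (γ.exp x)

lemma coeff_expB (n : ℕ) (x : A) :
    coeff n (expB (B := B) γ x) = algebraMap A B (γ.dpow n x) := by
  rw [expB, coeff_map, coeff_exp]

lemma expB_add {x y : A} (hx : x ∈ I) (hy : y ∈ I) :
    expB (B := B) γ (x + y) = expB γ x * expB γ y := by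
  rw [expB, γ.exp_add hx hy, map_mul]
  rfl

lemma expB_zero : expB (B := B) γ 0 = 1 := by
  rw [expB, exp_zero', map_one]

lemma constantCoeff_expB {x : A} (hx : x ∈ I) : constantCoeff (expB (B := B) γ x) = 1 := by
  rw [← coeff_zero_eq_constantCoeff_apply, coeff_expB, γ.dpow_zero hx, map_one]

lemma rescale_add_expB {x : A} (hx : x ∈ I) (b b' : B) :
    rescale (b + b') (expB γ x) = rescale b (expB γ x) * rescale b' (expB γ x) := by
  ext n
  rw [coeff_rescale, coeff_mul, Commute.add_pow' (Commute.all b b'), Finset.sum_mul]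
  refine Finset.sum_congr rfl fun k hk => ?_
  have hk' : k.1 + k.2 = n := Finset.mem_antidiagonal.mp hk
  rw [coeff_rescale, coeff_rescale, coeff_expB, coeff_expB, coeff_expB, nsmul_eq_mul]
  have h1 : algebraMap A B (γ.dpow k.1 x) * algebraMap A B (γ.dpow k.2 x) =
      (n.choose k.1 : B) * algebraMap A B (γ.dpow n x) := by
    rw [← map_mul, γ.mul_dpow hx, hk', map_mul, map_natCast]
  calc (n.choose k.1 : B) * (b ^ k.1 * b' ^ k.2) * algebraMap A B (γ.dpow n x)
      = b ^ k.1 * b' ^ k.2 * ((n.choose k.1 : B) * algebraMap A B (γ.dpow n x)) := by ring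
    _ = b ^ k.1 * algebraMap A B (γ.dpow k.1 x) * (b' ^ k.2 * algebraMap A B (γ.dpow k.2 x)) := by
        rw [← h1]; ring

/-- The inner additive map `b ↦ E_x(bT)`. -/
noncomputable def psiInner (x : I) : B →+ Additive (PowerSeries B) where
  toFun b := Additive.ofMul (rescale b (expB γ (x : A)))
  map_zero' := by
    rw [rescale_zero_apply, constantCoeff_expB γ x.2, map_one]
    rfl
  map_add' b b' := by
    rw [rescale_add_expB γ x.2]
    rfl

lemma psiInner_apply (x : I) (b : B) :
    psiInner γ x b = Additive.ofMul (rescale b (expB γ (x : A))) := rfl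

/-- The biadditive map `(x, b) ↦ E_x(bT)`. -/
noncomputable def psiBi : ↥I →+ B →+ Additive (PowerSeries B) where
  toFun x := psiInner γ x
  map_zero' := by
    apply AddMonoidHom.ext
    intro b
    rw [psiInner_apply, Submodule.coe_zero, expB_zero, map_one]
    rfl
  map_add' x y := by
    apply AddMonoidHom.ext
    intro b
    rw [AddMonoidHom.add_apply, psiInner_apply, psiInner_apply, psiInner_apply,
      Submodule.coe_add, expB_add γ x.2 y.2, map_mul]
    rfl

lemma psiBi_apply (x : I) (b : B) :
    psiBi γ x b = Additive.ofMul (rescale b (expB γ (x : A))) := rfl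

lemma psiBi_smul (a : A) (x : I) (b : B) : psiBi γ (a • x) b = psiBi γ x (a • b) := by
  rw [psiBi_apply, psiBi_apply]
  congr 1
  ext n
  rw [coeff_rescale, coeff_rescale, coeff_expB, coeff_expB, Submodule.coe_smul, smul_eq_mul,
    γ.dpow_mul x.2, map_mul, map_pow, Algebra.smul_def]
  ring

/-- The additive map `I ⊗ B → (B⟦X⟧, *)`. -/
noncomputable def psi : ↥I ⊗[A] B →+ Additive (PowerSeries B) :=
  TensorProduct.liftAddHom (psiBi γ) (psiBi_smul γ)

/-- The series attached to an element of `I ⊗ B`. -/
noncomputable def psiS (w : ↥I ⊗[A] B) : PowerSeries B := Additive.toMul (psi γ w)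

lemma psiS_tmul (x : I) (b : B) : psiS γ (x ⊗ₜ[A] b) = rescale b (expB γ (x : A)) := rfl

lemma psiS_zero : psiS γ (0 : ↥I ⊗[A] B) = 1 := by
  rw [psiS, map_zero]
  rfl

lemma psiS_add (w w' : ↥I ⊗[A] B) : psiS γ (w + w') = psiS γ w * psiS γ w' := by
  rw [psiS, map_add]
  rfl

lemma coeff_zero_psiS (w : ↥I ⊗[A] B) : coeff 0 (psiS γ w) = 1 := by
  induction w using TensorProduct.induction_on with
  | zero => rw [psiS_zero, coeff_zero_one]
  | tmul x b =>
    rw [psiS_tmul, coeff_rescale, pow_zero, one_mul, coeff_expB, γ.dpow_zero x.2, map_one]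
  | add w w' hw hw' =>
    rw [psiS_add, coeff_zero_eq_constantCoeff_apply, map_mul,
      ← coeff_zero_eq_constantCoeff_apply, ← coeff_zero_eq_constantCoeff_apply, hw, hw', one_mul]

lemma coeff_one_mul' (F G : PowerSeries B) (hF : coeff 0 F = 1) (hG : coeff 0 G = 1) :
    coeff 1 (F * G) = coeff 1 F + coeff 1 G := by
  rw [coeff_mul, Finset.Nat.sum_antidiagonal_eq_sum_range_succ_mk, Finset.sum_range_succ,
    Finset.sum_range_one]
  simp only [Nat.sub_zero, Nat.sub_self]
  rw [hF, hG]
  ring

lemma coeff_one_psiS (w : ↥I ⊗[A] B) : coeff 1 (psiS γ w) = muMap I B w := by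
  induction w using TensorProduct.induction_on with
  | zero => rw [psiS_zero, map_zero, coeff_one, if_neg one_ne_zero]
  | tmul x b =>
    rw [psiS_tmul, coeff_rescale, pow_one, coeff_expB, γ.dpow_one x.2, muMap_tmul, mul_comm]
  | add w w' hw hw' =>
    rw [psiS_add, coeff_one_mul' _ _ (coeff_zero_psiS γ w) (coeff_zero_psiS γ w'), hw, hw',
      map_add]

lemma coeff_psiS_mem (w : ↥I ⊗[A] B) {n : ℕ} (hn : n ≠ 0) :
    coeff n (psiS γ w) ∈ I.map (algebraMap A B) := by
  induction w using TensorProduct.induction_on generalizing n with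
  | zero =>
    rw [psiS_zero, coeff_one, if_neg hn]
    exact Ideal.zero_mem _
  | tmul x b =>
    rw [psiS_tmul, coeff_rescale, coeff_expB]
    exact Ideal.mul_mem_left _ _ (Ideal.mem_map_of_mem _ (γ.dpow_mem hn x.2))
  | add w w' hw hw' =>
    rw [psiS_add, coeff_mul]
    refine Ideal.sum_mem _ fun k hk => ?_
    by_cases hk1 : k.1 = 0
    · have hk2 : k.2 ≠ 0 := by
        have := Finset.mem_antidiagonal.mp hk
        omega
      exact Ideal.mul_mem_left _ _ (hw' hk2)
    · exact Ideal.mul_mem_right _ _ (hw hk1)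

lemma psiS_mulRight (c : B) (w : ↥I ⊗[A] B) :
    psiS γ (mulRight I c w) = rescale c (psiS γ w) := by
  induction w using TensorProduct.induction_on with
  | zero => rw [map_zero, psiS_zero, map_one]
  | tmul x b => rw [mulRight_tmul, psiS_tmul, psiS_tmul, rescale_rescale, mul_comm]
  | add w w' hw hw' => rw [map_add, psiS_add, psiS_add, hw, hw', map_mul]

variable (hinj : Function.Injective (muMap I B))

open Classical in
/-- The extended divided power operations. -/
noncomputable def extDpow (n : ℕ) (z : B) : B :=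
  if hz : z ∈ I.map (algebraMap A B) then coeff n (psiS γ (exists_muMap_eq hz).choose) else 0

include hinj in
lemma extDpow_muMap (n : ℕ) (w : ↥I ⊗[A] B) :
    extDpow γ n (muMap I B w) = coeff n (psiS γ w) := by
  rw [extDpow, dif_pos (muMap_mem w)]
  have := hinj (exists_muMap_eq (muMap_mem w)).choose_spec
  rw [this]

lemma extDpow_null {n : ℕ} {z : B} (hz : z ∉ I.map (algebraMap A B)) : extDpow γ n z = 0 := by
  rw [extDpow, dif_neg hz]

include hinj in
lemma extDpow_algebraMap {x : A} (hx : x ∈ I) (n : ℕ) :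
    extDpow γ n (algebraMap A B x) = algebraMap A B (γ.dpow n x) := by
  have h1 : algebraMap A B x = muMap I B ((⟨x, hx⟩ : I) ⊗ₜ[A] 1) := by
    rw [muMap_tmul, mul_one]
  rw [h1, extDpow_muMap γ hinj, psiS_tmul, coeff_rescale, one_pow, one_mul, coeff_expB]

include hinj in
/-- **Extension lemma.** If `I ⊗ B → B` is injective, the divided powers on `I` extend to `IB`. -/
theorem exists_dividedPowers_map :
    ∃ δ : DividedPowers (I.map (algebraMap A B)), γ.IsDPMorphism δ (algebraMap A B) := by
  have key : ∃ δ : DividedPowers (I.map (algebraMap A B)), δ.dpow = extDpow γ := by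
    refine dividedPowers_of_gens (I.map (algebraMap A B)) (extDpow γ) ?_ ?_ ?_ ?_ ?_
      ((algebraMap A B) '' I) rfl ?_ ?_ ?_
    · intro z hz
      obtain ⟨w, rfl⟩ := exists_muMap_eq hz
      rw [extDpow_muMap γ hinj, coeff_zero_psiS]
    · intro z hz
      obtain ⟨w, rfl⟩ := exists_muMap_eq hz
      rw [extDpow_muMap γ hinj, coeff_one_psiS]
    · intro n z hn hz
      obtain ⟨w, rfl⟩ := exists_muMap_eq hz
      rw [extDpow_muMap γ hinj]
      exact coeff_psiS_mem γ w hn
    · intro n z z' hz hz'
      obtain ⟨w, rfl⟩ := exists_muMap_eq hz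
      obtain ⟨w', rfl⟩ := exists_muMap_eq hz'
      rw [← map_add, extDpow_muMap γ hinj, psiS_add, coeff_mul]
      refine Finset.sum_congr rfl fun k _ => ?_
      rw [extDpow_muMap γ hinj, extDpow_muMap γ hinj]
    · intro n c z hz
      obtain ⟨w, rfl⟩ := exists_muMap_eq hz
      rw [← muMap_mulRight, extDpow_muMap γ hinj, extDpow_muMap γ hinj, psiS_mulRight,
        coeff_rescale]
    · intro n z hz
      exact extDpow_null γ hz
    · rintro m n _ ⟨x, hx, rfl⟩
      rw [extDpow_algebraMap γ hinj hx, extDpow_algebraMap γ hinj hx,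
        extDpow_algebraMap γ hinj hx, ← map_mul, γ.mul_dpow hx, map_mul, map_natCast]
    · rintro m n _ hn ⟨x, hx, rfl⟩
      rw [extDpow_algebraMap γ hinj hx, extDpow_algebraMap γ hinj (γ.dpow_mem hn hx),
        extDpow_algebraMap γ hinj hx, γ.dpow_comp hn hx, map_mul, map_natCast]
  obtain ⟨δ, hδ⟩ := key
  refine ⟨δ, ⟨le_refl _, fun {n} a ha => ?_⟩⟩
  rw [hδ, extDpow_algebraMap γ hinj ha]

end Extend

section Uniqueness

variable {A : Type u} {B : Type v} [CommRing A] [CommRing B] [Algebra A B] {I : Ideal A}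
  (γ : DividedPowers I)

/-- Uniqueness of the extension of divided powers to `IB`. -/
theorem dividedPowers_map_unique (δ δ' : DividedPowers (I.map (algebraMap A B)))
    (h : γ.IsDPMorphism δ (algebraMap A B)) (h' : γ.IsDPMorphism δ' (algebraMap A B)) :
    δ = δ' := by
  refine DividedPowers.dpow_eq_from_gens δ' δ (S := (algebraMap A B) '' I) rfl ?_
  rintro n _ ⟨x, hx, rfl⟩
  rw [h.2 x hx, h'.2 x hx]

/-- Flat case of the extension lemma. -/
theorem exists_dividedPowers_map_of_flat [Module.Flat A B] :
    ∃ δ : DividedPowers (I.map (algebraMap A B)), γ.IsDPMorphism δ (algebraMap A B) := by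
  refine exists_dividedPowers_map γ ?_
  have h1 : muMap I B = (TensorProduct.lid A B).toLinearMap ∘ₗ LinearMap.rTensor B I.subtype := by
    apply TensorProduct.ext'
    intro x b
    rw [muMap_tmul, LinearMap.comp_apply, LinearMap.rTensor_tmul, LinearEquiv.coe_coe,
      TensorProduct.lid_tmul, Submodule.subtype_apply, Algebra.smul_def]
  rw [h1]
  exact (TensorProduct.lid A B).injective.comp
    (Module.Flat.rTensor_preserves_injective_linearMap I.subtype Subtype.val_injective)

end Uniqueness

end Groth.Agent.Lib.Helper6.DP
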