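import Mathlib.RingTheory.DividedPowers.RatAlgebra
import Mathlib.RingTheory.DividedPowers.DPMorphism
import Mathlib.RingTheory.PowerSeries.Basic
import Mathlib.RingTheory.Flat.Basic
import Mathlib.RingTheory.TensorProduct.Free
import Mathlib.LinearAlgebra.TensorProduct.Basic
import Mathlib.Tactic
import Groth.Agent.Lib.Helper6.DP.Extend

/-!
# The divided power polynomial algebra over an arbitrary ring (helper6)

`R ⊗[ℤ] ℤ⟨X_i⟩` with the divided power structure on its augmentation ideal, and the comparison with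
an abstractly presented divided power polynomial algebra.
-/

set_option autoImplicit false
set_option linter.unusedSectionVars false
set_option linter.unusedVariables false
set_option linter.unusedSimpArgs false
set_option linter.style.haveILetI false
set_option maxHeartbeats 400000
universe u v w

namespace Groth.Agent.Lib.Helper6.DP

open Finset TensorProduct

attribute [local instance] Algebra.TensorProduct.rightAlgebra

section Retraction

variable (σ : Type w)

open Classical in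
/-- A `ℤ`-linear retraction of `ℤ⟨X⟩` onto its augmentation ideal. -/
noncomputable def augRet : dpSubring σ →ₗ[ℤ] ↥(dpAug σ) :=
  (dpBasis σ).constr ℤ
    (fun e => if he : e = 0 then 0 else ⟨dpMon σ e, dpMon_mem_dpAug σ he⟩)

open Classical in
lemma augRet_dpMon {e : σ →₀ ℕ} (he : e ≠ 0) :
    augRet σ (dpMon σ e) = ⟨dpMon σ e, dpMon_mem_dpAug σ he⟩ := by
  have h := (dpBasis σ).constr_basis ℤ (fun e => if he : e = 0 then (0 : ↥(dpAug σ))
    else ⟨dpMon σ e, dpMon_mem_dpAug σ he⟩) e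
  rw [dpBasis_apply, dif_neg he] at h
  exact h

lemma augRet_of_mem : ∀ f ∈ dpAug σ, ((augRet σ f : ↥(dpAug σ)) : dpSubring σ) = f := by
  refine dpAug_induction σ (P := fun f => ((augRet σ f : ↥(dpAug σ)) : dpSubring σ) = f) ?_ ?_ ?_
  · rw [map_zero]
    rfl
  · intro f g _ _ hf hg
    rw [map_add, Submodule.coe_add, hf, hg]
  · intro z e he
    rw [map_zsmul, augRet_dpMon σ he, Submodule.coe_smul_of_tower]

lemma augRet_comp_subtype :
    (augRet σ) ∘ₗ ((dpAug σ).subtype.restrictScalars ℤ) = LinearMap.id := by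
  apply LinearMap.ext
  intro x
  apply Subtype.ext
  exact augRet_of_mem σ x x.2

end Retraction

section TensorModel

variable (R : Type u) [CommRing R] (σ : Type w)

/-- `ψ : R ⊗ D₊ → D₊ ⊗_D (R ⊗ D)`, `r ⊗ x ↦ x ⊗ (r ⊗ 1)`. -/
noncomputable def psiT :
    R ⊗[ℤ] ↥(dpAug σ) →+ ↥(dpAug σ) ⊗[dpSubring σ] (R ⊗[ℤ] dpSubring σ) :=
  TensorProduct.liftAddHom
    (AddMonoidHom.mk' (fun r : R => AddMonoidHom.mk'
        (fun x : ↥(dpAug σ) => x ⊗ₜ[dpSubring σ] (r ⊗ₜ[ℤ] (1 : dpSubring σ)))
        (fun x y => TensorProduct.add_tmul _ _ _))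
      (fun r r' => by
        apply AddMonoidHom.ext
        intro x
        simp only [AddMonoidHom.mk'_apply, AddMonoidHom.add_apply]
        rw [TensorProduct.add_tmul, TensorProduct.tmul_add]))
    (fun z r x => by
      simp only [AddMonoidHom.mk'_apply]
      rw [← TensorProduct.smul_tmul', TensorProduct.tmul_smul, TensorProduct.smul_tmul'])

lemma psiT_tmul (r : R) (x : ↥(dpAug σ)) :
    psiT R σ (r ⊗ₜ[ℤ] x) = x ⊗ₜ[dpSubring σ] (r ⊗ₜ[ℤ] (1 : dpSubring σ)) := rfl

lemma psiT_surjective : Function.Surjective (psiT R σ) := by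
  intro w
  induction w using TensorProduct.induction_on with
  | zero => exact ⟨0, map_zero _⟩
  | tmul x p =>
    induction p using TensorProduct.induction_on with
    | zero => exact ⟨0, by rw [map_zero, TensorProduct.tmul_zero]⟩
    | tmul r d =>
      refine ⟨r ⊗ₜ[ℤ] (d • x), ?_⟩
      rw [psiT_tmul, TensorProduct.smul_tmul]
      congr 1
      rw [Algebra.smul_def, Algebra.TensorProduct.right_algebraMap_apply,
        Algebra.TensorProduct.tmul_mul_tmul, one_mul, mul_one]
    | add p p' hp hp' =>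
      obtain ⟨a, ha⟩ := hp
      obtain ⟨a', ha'⟩ := hp'
      exact ⟨a + a', by rw [map_add, ha, ha', TensorProduct.tmul_add]⟩
  | add w w' hw hw' =>
    obtain ⟨a, ha⟩ := hw
    obtain ⟨a', ha'⟩ := hw'
    exact ⟨a + a', by rw [map_add, ha, ha']⟩

lemma muMap_psiT (t : R ⊗[ℤ] ↥(dpAug σ)) :
    muMap (dpAug σ) (R ⊗[ℤ] dpSubring σ) (psiT R σ t) =
      LinearMap.lTensor R ((dpAug σ).subtype.restrictScalars ℤ) t := by
  induction t using TensorProduct.induction_on with
  | zero => rw [map_zero, map_zero, map_zero]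
  | tmul r x =>
    rw [psiT_tmul, muMap_tmul, Algebra.TensorProduct.right_algebraMap_apply,
      Algebra.TensorProduct.tmul_mul_tmul, one_mul, mul_one, LinearMap.lTensor_tmul]
    rfl
  | add t t' ht ht' => rw [map_add, map_add, map_add, ht, ht']

lemma lTensor_subtype_injective :
    Function.Injective (LinearMap.lTensor R ((dpAug σ).subtype.restrictScalars ℤ)) := by
  intro t t' htt
  have h := congrArg (LinearMap.lTensor R (augRet σ)) htt
  rwa [← LinearMap.comp_apply, ← LinearMap.comp_apply, ← LinearMap.lTensor_comp,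
    augRet_comp_subtype, LinearMap.lTensor_id, LinearMap.id_apply, LinearMap.id_apply] at h

lemma muMap_injective_model :
    Function.Injective (muMap (dpAug σ) (R ⊗[ℤ] dpSubring σ)) := by
  rw [injective_iff_map_eq_zero]
  intro w hw
  obtain ⟨t, rfl⟩ := psiT_surjective R σ w
  rw [muMap_psiT] at hw
  have ht : t = 0 := lTensor_subtype_injective R σ (by rw [hw, map_zero])
  rw [ht, map_zero]

/-- The divided power structure on the augmentation ideal of `R ⊗ ℤ⟨X⟩`. -/
theorem exists_dividedPowers_tensorModel :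
    ∃ δ : DividedPowers ((dpAug σ).map (algebraMap (dpSubring σ) (R ⊗[ℤ] dpSubring σ))),
      (dpPlus σ).IsDPMorphism δ (algebraMap (dpSubring σ) (R ⊗[ℤ] dpSubring σ)) :=
  exists_dividedPowers_map (dpPlus σ) (muMap_injective_model R σ)

end TensorModel

section Abstract

variable {R : Type u} [CommRing R] {σ : Type w} {P : Type v} [CommRing P] [Algebra R P]
  (x : σ → ℕ → P) (hx0 : ∀ i, x i 0 = 1)
  (hxmul : ∀ i n m, x i n * x i m = ((n + m).choose n : P) * x i (n + m))
  (b : Module.Basis (σ →₀ ℕ) R P) (hb : ∀ e : σ →₀ ℕ, b e = e.prod (fun i k => x i k))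

/-- The comparison map `R ⊗ ℤ⟨X⟩ → P`. -/
noncomputable def cmpHom : R ⊗[ℤ] dpSubring σ →ₐ[ℤ] P :=
  Algebra.TensorProduct.productMap ((Algebra.ofId R P).restrictScalars ℤ)
    (dpLift x hx0 hxmul).toIntAlgHom

lemma cmpHom_tmul (r : R) (d : dpSubring σ) :
    cmpHom x hx0 hxmul (r ⊗ₜ[ℤ] d) = algebraMap R P r * dpLift x hx0 hxmul d := by
  rw [cmpHom, Algebra.TensorProduct.productMap_apply_tmul]
  rfl

/-- The comparison as a linear equivalence, via the bases. -/
noncomputable def cmpLin : R ⊗[ℤ] dpSubring σ ≃ₗ[R] P :=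
  (Algebra.TensorProduct.basis R (dpBasis σ)).equiv b (Equiv.refl _)

lemma cmpLin_one_tmul_dpMon (e : σ →₀ ℕ) :
    cmpLin b ((1 : R) ⊗ₜ[ℤ] dpMon σ e) = b e := by
  rw [cmpLin, ← dpBasis_apply, ← Algebra.TensorProduct.basis_apply, Module.Basis.equiv_apply]
  rfl

include hb in
lemma cmpLin_one_tmul (d : dpSubring σ) :
    cmpLin b ((1 : R) ⊗ₜ[ℤ] d) = dpLift x hx0 hxmul d := by
  obtain ⟨z, hz⟩ := exists_repr σ d
  rw [hz, TensorProduct.tmul_sum, map_sum, map_sum]
  refine Finset.sum_congr rfl fun e _ => ?_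
  rw [TensorProduct.tmul_smul, map_zsmul, map_zsmul, cmpLin_one_tmul_dpMon, dpLift_dpMon, hb]
  rfl

include hb in
lemma cmpHom_eq_cmpLin (w : R ⊗[ℤ] dpSubring σ) : cmpHom x hx0 hxmul w = cmpLin b w := by
  induction w using TensorProduct.induction_on with
  | zero => rw [map_zero, map_zero]
  | tmul r d =>
    have h1 : r ⊗ₜ[ℤ] d = r • ((1 : R) ⊗ₜ[ℤ] d) := by
      rw [TensorProduct.smul_tmul', smul_eq_mul, mul_one]
    rw [cmpHom_tmul, h1, map_smul, cmpLin_one_tmul x hx0 hxmul b hb, Algebra.smul_def]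
  | add w w' hw hw' => rw [map_add, map_add, hw, hw']

include hb in
/-- The comparison ring isomorphism. -/
noncomputable def cmpEquiv : R ⊗[ℤ] dpSubring σ ≃+* P :=
  RingEquiv.ofBijective (cmpHom (R := R) x hx0 hxmul).toRingHom (by
    have h : ⇑(cmpHom (R := R) x hx0 hxmul).toRingHom = ⇑(cmpLin b) := by
      funext w
      exact cmpHom_eq_cmpLin x hx0 hxmul b hb w
    rw [h]
    exact (cmpLin b).bijective)

lemma cmpEquiv_apply (w : R ⊗[ℤ] dpSubring σ) :
    cmpEquiv x hx0 hxmul b hb w = cmpHom x hx0 hxmul w := rfl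

lemma cmpEquiv_algebraMap (d : dpSubring σ) :
    cmpEquiv x hx0 hxmul b hb (algebraMap (dpSubring σ) (R ⊗[ℤ] dpSubring σ) d) =
      dpLift x hx0 hxmul d := by
  rw [cmpEquiv_apply, Algebra.TensorProduct.right_algebraMap_apply, cmpHom_tmul, map_one,
    one_mul]

/-- The augmentation ideal of the abstract divided power polynomial algebra. -/
def augIdeal : Ideal P := Ideal.span {y : P | ∃ (i : σ) (n : ℕ), 1 ≤ n ∧ y = x i n}

lemma map_cmpEquiv :
    Ideal.map (cmpEquiv x hx0 hxmul b hb)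
      ((dpAug σ).map (algebraMap (dpSubring σ) (R ⊗[ℤ] dpSubring σ))) = augIdeal x := by
  classical
  have h1 : Ideal.map (cmpEquiv x hx0 hxmul b hb)
      ((dpAug σ).map (algebraMap (dpSubring σ) (R ⊗[ℤ] dpSubring σ))) =
      Ideal.map ((cmpEquiv x hx0 hxmul b hb : R ⊗[ℤ] dpSubring σ →+* P).comp
        (algebraMap (dpSubring σ) (R ⊗[ℤ] dpSubring σ))) (dpAug σ) := by
    rw [← Ideal.map_map]
    rfl
  have h2 : (cmpEquiv x hx0 hxmul b hb : R ⊗[ℤ] dpSubring σ →+* P).comp
      (algebraMap (dpSubring σ) (R ⊗[ℤ] dpSubring σ)) = dpLift x hx0 hxmul := by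
    apply RingHom.ext
    intro d
    exact cmpEquiv_algebraMap x hx0 hxmul b hb d
  rw [h1, h2, dpAug_eq_span, Ideal.map_span, augIdeal]
  congr 1
  ext y
  constructor
  · rintro ⟨_, ⟨i, n, hn, rfl⟩, rfl⟩
    exact ⟨i, n, hn, dpLift_single x hx0 hxmul i n⟩
  · rintro ⟨i, n, hn, rfl⟩
    exact ⟨_, ⟨i, n, hn, rfl⟩, dpLift_single x hx0 hxmul i n⟩

include hx0 hxmul hb in
/-- Existence of the divided power structure on the augmentation ideal of an abstractly presented
divided power polynomial algebra. -/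
theorem exists_dividedPowers_augIdeal :
    ∃ γ : DividedPowers (augIdeal x), ∀ (i : σ) (n : ℕ), γ.dpow n (x i 1) = x i n := by
  classical
  obtain ⟨δ, hδ⟩ := exists_dividedPowers_tensorModel R σ
  refine ⟨DividedPowers.ofRingEquiv (map_cmpEquiv x hx0 hxmul b hb) δ, fun i n => ?_⟩
  have h1 : x i 1 = cmpEquiv x hx0 hxmul b hb
      (algebraMap (dpSubring σ) (R ⊗[ℤ] dpSubring σ) (dpMon σ (Finsupp.single i 1))) := by
    rw [cmpEquiv_algebraMap, dpLift_single]
  have hmem : dpMon σ (Finsupp.single i 1) ∈ dpAug σ := dpMon_mem_dpAug σ (by simp)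
  rw [h1, DividedPowers.ofRingEquiv_dpow_apply, hδ.2 _ hmem, dpPlus_dpow_X, cmpEquiv_algebraMap,
    dpLift_single]

/-- Uniqueness of the divided power structure on the augmentation ideal. -/
theorem dividedPowers_augIdeal_unique (γ γ' : DividedPowers (augIdeal x))
    (h : ∀ (i : σ) (n : ℕ), γ.dpow n (x i 1) = x i n)
    (h' : ∀ (i : σ) (n : ℕ), γ'.dpow n (x i 1) = x i n) : γ = γ' := by
  have hmem : ∀ i, x i 1 ∈ augIdeal x := fun i => Ideal.subset_span ⟨i, 1, le_refl _, rfl⟩
  refine DividedPowers.dpow_eq_from_gens γ' γ (S := {y : P | ∃ (i : σ) (n : ℕ), 1 ≤ n ∧ y = x i n})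
    rfl ?_
  rintro m _ ⟨i, n, hn, rfl⟩
  have hn0 : n ≠ 0 := by omega
  have e1 : γ.dpow m (x i n) = (Nat.uniformBell m n : P) * x i (m * n) := by
    rw [← h i n, γ.dpow_comp hn0 (hmem i), h]
  have e2 : γ'.dpow m (x i n) = (Nat.uniformBell m n : P) * x i (m * n) := by
    rw [← h' i n, γ'.dpow_comp hn0 (hmem i), h']
  rw [e1, e2]

end Abstract

end Groth.Agent.Lib.Helper6.DP
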