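import Mathlib.RingTheory.DividedPowers.RatAlgebra
import Mathlib.RingTheory.DividedPowers.DPMorphism
import Mathlib.RingTheory.PowerSeries.Basic
import Mathlib.RingTheory.Flat.Basic
import Mathlib.RingTheory.TensorProduct.Free
import Mathlib.LinearAlgebra.TensorProduct.Basic
import Mathlib.Tactic
import Groth.Agent.Lib.Helper6.DP.TensorModel

/-!
# Divided powers on `IP + P₊` for a divided power polynomial algebra `P` over `(R, I, γ)` (helper6)
-/

set_option autoImplicit false
set_option linter.unusedSectionVars false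
set_option linter.unusedVariables false
set_option linter.unusedSimpArgs false
set_option linter.style.haveILetI false
set_option maxHeartbeats 400000
universe u v w

namespace Groth.Agent.Lib.Helper6.DP

open Finset

section PolyAdd

variable {R : Type u} [CommRing R] {I : Ideal R} (γ : DividedPowers I) {Λ : Type w}
  {P : Type v} [CommRing P] [Algebra R P]
  (x : Λ → ℕ → P) (hx0 : ∀ l, x l 0 = 1)
  (hxmul : ∀ l n m, x l n * x l m = ((n + m).choose n : P) * x l (n + m))
  (b : Module.Basis (Λ →₀ ℕ) R P) (hb : ∀ e : Λ →₀ ℕ, b e = e.prod (fun l k => x l k))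

include hx0 hxmul hb in
lemma basis_mul (e e' : Λ →₀ ℕ) : b e * b e' = (echoose e e' : P) * b (e + e') := by
  rw [hb, hb, hb]
  exact cpow_mul x hx0 hxmul e e'

include hx0 hb in
lemma x_eq_basis [DecidableEq Λ] (l : Λ) (n : ℕ) : x l n = b (Finsupp.single l n) := by
  rw [hb, Finsupp.prod_single_index (hx0 l)]

include hx0 hxmul hb in
lemma coord_zero_mul (p q : P) : b.repr (p * q) 0 = b.repr p 0 * b.repr q 0 := by
  classical
  have h : (LinearMap.mul R P).compr₂ (b.coord 0) =
      (LinearMap.mul R R).compl₁₂ (b.coord 0) (b.coord 0) := by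
    apply b.ext
    intro e
    apply b.ext
    intro e'
    simp only [LinearMap.compr₂_apply, LinearMap.mul_apply', LinearMap.compl₁₂_apply,
      Module.Basis.coord_apply, Module.Basis.repr_self]
    rw [basis_mul x hx0 hxmul b hb, ← nsmul_eq_mul, map_nsmul, Module.Basis.repr_self,
      Finsupp.smul_apply, Finsupp.single_apply, Finsupp.single_apply, Finsupp.single_apply]
    by_cases he : e = 0
    · by_cases he' : e' = 0
      · subst he he'
        rw [if_pos (add_zero 0), if_pos rfl, echoose_of_disjoint _ _ (by simp)]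
        simp
      · rw [if_neg he', mul_zero, if_neg (by rw [he, zero_add]; exact he'), smul_zero]
    · rw [if_neg he, zero_mul, if_neg (fun h0 => he (by
        ext l
        have := DFunLike.congr_fun h0 l
        simp only [Finsupp.add_apply, Finsupp.zero_apply] at this ⊢
        omega)), smul_zero]
  exact LinearMap.congr_fun₂ h p q

include hx0 hxmul hb in
lemma repr_zero_of_mem_augIdeal {y : P} (hy : y ∈ augIdeal x) : b.repr y 0 = 0 := by
  classical
  rw [augIdeal] at hy
  induction hy using Submodule.span_induction with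
  | mem y hy =>
    obtain ⟨l, n, hn, rfl⟩ := hy
    rw [x_eq_basis x hx0 b hb, Module.Basis.repr_self, Finsupp.single_apply, if_neg]
    intro h0
    have := Finsupp.single_eq_zero.mp h0
    omega
  | zero => simp
  | add y y' _ _ hy hy' => rw [map_add, Finsupp.add_apply, hy, hy', add_zero]
  | smul p y _ hy => rw [smul_eq_mul, coord_zero_mul x hx0 hxmul b hb, hy, mul_zero]

include hb in
lemma basis_mem_augIdeal {e : Λ →₀ ℕ} (he : e ≠ 0) : b e ∈ augIdeal x := by
  classical
  obtain ⟨l0, hl0⟩ : ∃ l, l ∈ e.support := by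
    by_contra h
    push Not at h
    exact he (Finsupp.support_eq_empty.mp (Finset.eq_empty_of_forall_notMem h))
  rw [hb, Finsupp.prod, ← Finset.mul_prod_erase _ _ hl0]
  refine Ideal.mul_mem_right _ _ (Ideal.subset_span ⟨l0, e l0, ?_, rfl⟩)
  exact Nat.one_le_iff_ne_zero.mpr (Finsupp.mem_support_iff.mp hl0)

include hx0 hxmul hb in
lemma inf_le_smul :
    I.map (algebraMap R P) ⊓ augIdeal x ≤ I.map (algebraMap R P) • augIdeal x := by
  classical
  rintro y ⟨hy1, hy2⟩
  have h1 : y ∈ I • (⊤ : Submodule R P) := by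
    rw [Ideal.smul_top_eq_map]
    exact hy1
  rw [← b.span_eq, Submodule.mem_ideal_smul_span_iff_exists_sum] at h1
  obtain ⟨a, ha, rfl⟩ := h1
  have hrepr : b.repr (a.sum fun e c => c • b e) = a := by
    have : (a.sum fun e c => c • b e) = Finsupp.linearCombination R b a := by
      rw [Finsupp.linearCombination_apply]
    rw [this, Module.Basis.repr_linearCombination]
  have h0 : a 0 = 0 := by
    have := repr_zero_of_mem_augIdeal x hx0 hxmul b hb hy2
    rwa [hrepr] at this
  rw [Finsupp.sum]
  refine Ideal.sum_mem _ fun e he => ?_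
  have he0 : e ≠ 0 := by
    intro h
    rw [h] at he
    exact (Finsupp.mem_support_iff.mp he) h0
  have hterm : a e • b e = algebraMap R P (a e) • b e := by
    rw [Algebra.smul_def, smul_eq_mul]
  rw [hterm]
  exact Submodule.smul_mem_smul (Ideal.mem_map_of_mem (algebraMap R P) (ha e))
    (basis_mem_augIdeal x b hb he0)

include hx0 hxmul hb in
/-- Divided powers on `IP + P₊`: existence and uniqueness. -/
theorem existsUnique_dividedPowers_poly (δplus : DividedPowers (augIdeal x)) :
    ∃! δ : DividedPowers (I.map (algebraMap R P) ⊔ augIdeal x),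
      γ.IsDPMorphism δ (algebraMap R P) ∧
        ∀ (n : ℕ) (y : P), y ∈ augIdeal x → δ.dpow n y = δplus.dpow n y := by
  haveI : Module.Free R P := Module.Free.of_basis b
  obtain ⟨γ', hγ'⟩ := exists_dividedPowers_map_of_flat (B := P) γ
  have hagree : ∀ (n : ℕ) (y : P), y ∈ I.map (algebraMap R P) ⊓ augIdeal x →
      γ'.dpow n y = δplus.dpow n y := by
    intro n y hy
    exact γ'.coincide_on_smul δplus (inf_le_smul x hx0 hxmul b hb hy)
  obtain ⟨ε, ⟨hε1, hε2⟩, -⟩ := existsUnique_dividedPowers_sup γ' δplus hagree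
  refine ⟨ε, ⟨⟨le_sup_left, fun {n} a ha => ?_⟩, hε2⟩, ?_⟩
  · rw [hε1 n _ (Ideal.mem_map_of_mem _ ha), hγ'.2 a ha]
  · rintro δ' ⟨hd1, hd2⟩
    have hS : I.map (algebraMap R P) ⊔ augIdeal x =
        Ideal.span (((algebraMap R P) '' I) ∪ (augIdeal x : Set P)) := by
      rw [Ideal.span_union, Ideal.span_eq]
      rfl
    refine DividedPowers.dpow_eq_from_gens ε δ' hS ?_
    intro n y hy
    rcases hy with ⟨a, ha, rfl⟩ | hy
    · rw [hε1 n _ (Ideal.mem_map_of_mem _ ha), hγ'.2 a ha, hd1.2 a ha]
    · rw [hε2 n y hy, hd2 n y hy]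

end PolyAdd

end Groth.Agent.Lib.Helper6.DP
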