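import Mathlib.RingTheory.DividedPowers.RatAlgebra
import Mathlib.RingTheory.DividedPowers.DPMorphism
import Mathlib.RingTheory.PowerSeries.Basic
import Mathlib.RingTheory.Flat.Basic
import Mathlib.RingTheory.TensorProduct.Free
import Mathlib.RingTheory.TensorProduct.Maps
import Mathlib.LinearAlgebra.TensorProduct.Basic
import Mathlib.Tactic
import Groth.Agent.Lib.Helper6.DP.PolyAdd

/-!
# The universal property of the divided power polynomial algebra (helper6)
-/

set_option autoImplicit false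
set_option linter.unusedSectionVars false
set_option linter.unusedVariables false
set_option linter.unusedSimpArgs false
set_option linter.style.haveILetI false
set_option maxHeartbeats 400000
universe u v w

namespace Groth.Agent.Lib.Helper6.DP

open Finset TensorProduct

section Universal

variable {A : Type u} [CommRing A] (σ : Type w)

/-- The divided monomials in the tensor model. -/
noncomputable def xs (A : Type u) [CommRing A] (σ : Type w) [DecidableEq σ] (i : σ) (n : ℕ) :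
    A ⊗[ℤ] dpSubring σ :=
  (1 : A) ⊗ₜ[ℤ] dpMon σ (Finsupp.single i n)

variable [DecidableEq σ]

lemma xs_zero (i : σ) : xs A σ i 0 = 1 := by
  rw [xs, dpMon_single_zero]
  rfl

lemma xs_mul (i : σ) (n m : ℕ) :
    xs A σ i n * xs A σ i m = ((n + m).choose n : A ⊗[ℤ] dpSubring σ) * xs A σ i (n + m) := by
  rw [xs, xs, xs, Algebra.TensorProduct.tmul_mul_tmul, one_mul, dpMon_single_mul,
    ← nsmul_eq_mul, ← nsmul_eq_mul, TensorProduct.tmul_smul]

/-- The basis of the tensor model. -/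
noncomputable def tBasis (A : Type u) [CommRing A] (σ : Type w) :
    Module.Basis (σ →₀ ℕ) A (A ⊗[ℤ] dpSubring σ) :=
  Algebra.TensorProduct.basis A (dpBasis σ)

lemma tBasis_apply (e : σ →₀ ℕ) : tBasis A σ e = (1 : A) ⊗ₜ[ℤ] dpMon σ e := by
  rw [tBasis, Algebra.TensorProduct.basis_apply, dpBasis_apply]

lemma tBasis_eq_prod (e : σ →₀ ℕ) : tBasis A σ e = e.prod (fun i k => xs A σ i k) := by
  rw [tBasis_apply, dpMon_eq_prod]
  have h := map_finsuppProd (Algebra.TensorProduct.includeRight :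
    dpSubring σ →ₐ[ℤ] A ⊗[ℤ] dpSubring σ) e (fun i n => dpMon σ (Finsupp.single i n))
  simp only [Algebra.TensorProduct.includeRight_apply] at h
  exact h

end Universal

section Main

variable {A : Type u} [CommRing A] {I : Ideal A} (γ : DividedPowers I) (t : ℕ)

/-- The universal property of the divided power polynomial algebra `A⟨x_1, …, x_t⟩`. -/
theorem exists_dpPolynomial :
    ∃ (D : Type u) (_ : CommRing D) (_ : Algebra A D) (J : Ideal D) (δ : DividedPowers J)
      (x : Fin t → D), (∀ i, x i ∈ J) ∧ γ.IsDPMorphism δ (algebraMap A D) ∧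
      ∀ (C : Type u) [CommRing C] [Algebra A C] (K : Ideal C) (ε : DividedPowers K),
        γ.IsDPMorphism ε (algebraMap A C) → ∀ k : Fin t → C, (∀ i, k i ∈ K) →
          ∃! φ : D →ₐ[A] C, (∀ i, φ (x i) = k i) ∧ δ.IsDPMorphism ε φ.toRingHom := by
  classical
  obtain ⟨δplus, hδplus⟩ := exists_dividedPowers_augIdeal (xs A (Fin t)) (xs_zero (Fin t))
    (xs_mul (Fin t)) (tBasis A (Fin t)) (tBasis_eq_prod (Fin t))
  obtain ⟨δ, ⟨hδ1, hδ2⟩, -⟩ := existsUnique_dividedPowers_poly γ (xs A (Fin t)) (xs_zero (Fin t))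
    (xs_mul (Fin t)) (tBasis A (Fin t)) (tBasis_eq_prod (Fin t)) δplus
  have hxmem : ∀ i n, 1 ≤ n → xs A (Fin t) i n ∈ augIdeal (xs A (Fin t)) :=
    fun i n hn => Ideal.subset_span ⟨i, n, hn, rfl⟩
  have hδx : ∀ i n, δ.dpow n (xs A (Fin t) i 1) = xs A (Fin t) i n := by
    intro i n
    rw [hδ2 n _ (hxmem i 1 (le_refl _)), hδplus]
  refine ⟨A ⊗[ℤ] dpSubring (Fin t), inferInstance, inferInstance, _, δ,
    fun i => xs A (Fin t) i 1, fun i => Ideal.mem_sup_right (hxmem i 1 (le_refl _)), hδ1, ?_⟩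
  intro C _ _ K ε hε k hk
  -- the lift
  have hc0 : ∀ i, ε.dpow 0 (k i) = 1 := fun i => ε.dpow_zero (hk i)
  have hcmul : ∀ i n m, ε.dpow n (k i) * ε.dpow m (k i) =
      ((n + m).choose n : C) * ε.dpow (n + m) (k i) := fun i n m => ε.mul_dpow (hk i)
  let ψ : dpSubring (Fin t) →+* C := dpLift (fun i n => ε.dpow n (k i)) hc0 hcmul
  let φ : A ⊗[ℤ] dpSubring (Fin t) →ₐ[A] C :=
    Algebra.TensorProduct.lift (Algebra.ofId A C) ψ.toIntAlgHom (fun _ _ => Commute.all _ _)
  have hφxs : ∀ i n, φ (xs A (Fin t) i n) = ε.dpow n (k i) := by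
    intro i n
    change (Algebra.ofId A C) 1 * ψ (dpMon (Fin t) (Finsupp.single i n)) = _
    rw [map_one, one_mul]
    exact dpLift_single _ hc0 hcmul i n
  have hJ : Ideal.map (algebraMap A (A ⊗[ℤ] dpSubring (Fin t))) I ⊔ augIdeal (xs A (Fin t)) =
      Ideal.span (((algebraMap A (A ⊗[ℤ] dpSubring (Fin t))) '' I) ∪
        {y | ∃ (i : Fin t) (n : ℕ), 1 ≤ n ∧ y = xs A (Fin t) i n}) := by
    rw [Ideal.span_union]
    rfl
  refine ⟨φ, ⟨fun i => ?_, ?_⟩, ?_⟩
  · rw [hφxs, ε.dpow_one (hk i)]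
  · refine DividedPowers.IsDPMorphism.on_span δ ε hJ ?_ ?_
    · rintro s (⟨a, ha, rfl⟩ | ⟨i, n, hn, rfl⟩)
      · change φ (algebraMap A _ a) ∈ K
        rw [AlgHom.commutes]
        exact hε.1 (Ideal.mem_map_of_mem _ ha)
      · change φ (xs A (Fin t) i n) ∈ K
        rw [hφxs]
        exact ε.dpow_mem (by omega) (hk i)
    · rintro m s (⟨a, ha, rfl⟩ | ⟨i, n, hn, rfl⟩)
      · change φ (δ.dpow m (algebraMap A _ a)) = ε.dpow m (φ (algebraMap A _ a))
        rw [hδ1.2 a ha, AlgHom.commutes, AlgHom.commutes, hε.2 a ha]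
      · change φ (δ.dpow m (xs A (Fin t) i n)) = ε.dpow m (φ (xs A (Fin t) i n))
        have hn0 : n ≠ 0 := by omega
        rw [← hδx i n, δ.dpow_comp hn0 (Ideal.mem_sup_right (hxmem i 1 (le_refl _))), hδx,
          hδx, map_mul, map_natCast, hφxs, hφxs, ε.dpow_comp hn0 (hk i)]
  · rintro φ' ⟨hφ'1, hφ'2⟩
    have hφ'xs : ∀ i n, φ' (xs A (Fin t) i n) = ε.dpow n (k i) := by
      intro i n
      rw [← hδx i n]
      have := hφ'2.2 (xs A (Fin t) i 1) (Ideal.mem_sup_right (hxmem i 1 (le_refl _))) (n := n)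
      change ε.dpow n (φ' (xs A (Fin t) i 1)) = φ' (δ.dpow n (xs A (Fin t) i 1)) at this
      rw [← this, hφ'1]
    apply Algebra.TensorProduct.ext
    · apply AlgHom.ext
      intro a
      simp only [AlgHom.coe_comp, Function.comp_apply, Algebra.TensorProduct.includeLeft_apply]
      have h1 : a ⊗ₜ[ℤ] (1 : dpSubring (Fin t)) = algebraMap A (A ⊗[ℤ] dpSubring (Fin t)) a := rfl
      rw [h1, AlgHom.commutes, AlgHom.commutes]
    · have hr : ((φ'.restrictScalars ℤ).comp Algebra.TensorProduct.includeRight :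
          dpSubring (Fin t) →ₐ[ℤ] C).toRingHom =
          ((φ.restrictScalars ℤ).comp Algebra.TensorProduct.includeRight :
          dpSubring (Fin t) →ₐ[ℤ] C).toRingHom := by
        apply dpHom_ext
        intro e
        change φ' ((1 : A) ⊗ₜ[ℤ] dpMon (Fin t) e) = φ ((1 : A) ⊗ₜ[ℤ] dpMon (Fin t) e)
        rw [← tBasis_apply, tBasis_eq_prod, map_finsuppProd, map_finsuppProd]
        refine Finsupp.prod_congr fun i _ => ?_
        rw [hφ'xs, hφxs]
      apply AlgHom.ext
      intro d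
      exact RingHom.congr_fun hr d

end Main

end Groth.Agent.Lib.Helper6.DP
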