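import Mathlib.RingTheory.DividedPowers.RatAlgebra
import Mathlib.RingTheory.DividedPowers.DPMorphism
import Mathlib.RingTheory.PowerSeries.Basic
import Mathlib.RingTheory.Flat.Basic
import Mathlib.RingTheory.TensorProduct.Free
import Mathlib.RingTheory.TensorProduct.Maps
import Mathlib.LinearAlgebra.TensorProduct.Basic
import Mathlib.Tactic
import Groth.Agent.Lib.Helper6.DP.Universal

/-!
# Maps out of the divided power polynomial algebra `B ⊗ ℤ⟨X_i⟩` in arbitrarily many variables
(helper6)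
-/

set_option autoImplicit false
set_option linter.unusedSectionVars false
set_option linter.unusedVariables false
set_option linter.unusedSimpArgs false
set_option linter.style.haveILetI false
set_option maxHeartbeats 400000
universe u v w

namespace Groth.Agent.Lib.Helper6.DP

open Finset TensorProduct

section Lift

variable {B : Type u} [CommRing B] {σ : Type w} [DecidableEq σ]

lemma xs_mem_augIdeal (i : σ) {n : ℕ} (hn : 1 ≤ n) : xs B σ i n ∈ augIdeal (xs B σ) :=
  Ideal.subset_span ⟨i, n, hn, rfl⟩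

/-- The divided power structure on the augmentation ideal of `B ⊗ ℤ⟨X⟩`. -/
theorem exists_dividedPowers_xs (B : Type u) [CommRing B] (σ : Type w) [DecidableEq σ] :
    ∃ δplus : DividedPowers (augIdeal (xs B σ)),
      ∀ (i : σ) (n : ℕ), δplus.dpow n (xs B σ i 1) = xs B σ i n :=
  exists_dividedPowers_augIdeal (xs B σ) (xs_zero σ) (xs_mul σ) (tBasis B σ) (tBasis_eq_prod σ)

variable (δplus : DividedPowers (augIdeal (xs B σ)))
  (hδplus : ∀ (i : σ) (n : ℕ), δplus.dpow n (xs B σ i 1) = xs B σ i n)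
  {C : Type v} [CommRing C] [Algebra B C] {K : Ideal C} (ε : DividedPowers K)

include hδplus in
/-- Existence of the lift of a family of elements of a divided power ideal. -/
theorem exists_tensorModel_lift (k : σ → C) (hk : ∀ i, k i ∈ K) :
    ∃ φ : B ⊗[ℤ] dpSubring σ →ₐ[B] C, (∀ i n, φ (xs B σ i n) = ε.dpow n (k i)) ∧
      δplus.IsDPMorphism ε φ.toRingHom := by
  have hc0 : ∀ i, ε.dpow 0 (k i) = 1 := fun i => ε.dpow_zero (hk i)
  have hcmul : ∀ i n m, ε.dpow n (k i) * ε.dpow m (k i) =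
      ((n + m).choose n : C) * ε.dpow (n + m) (k i) := fun i n m => ε.mul_dpow (hk i)
  let ψ : dpSubring σ →+* C := dpLift (fun i n => ε.dpow n (k i)) hc0 hcmul
  let φ : B ⊗[ℤ] dpSubring σ →ₐ[B] C :=
    Algebra.TensorProduct.lift (Algebra.ofId B C) ψ.toIntAlgHom (fun _ _ => Commute.all _ _)
  have hφxs : ∀ i n, φ (xs B σ i n) = ε.dpow n (k i) := by
    intro i n
    change (Algebra.ofId B C) 1 * ψ (dpMon σ (Finsupp.single i n)) = _
    rw [map_one, one_mul]
    exact dpLift_single _ hc0 hcmul i n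
  refine ⟨φ, hφxs, ?_⟩
  refine DividedPowers.IsDPMorphism.on_span δplus ε
    (S := {y | ∃ (i : σ) (n : ℕ), 1 ≤ n ∧ y = xs B σ i n}) rfl ?_ ?_
  · rintro s ⟨i, n, hn, rfl⟩
    change φ (xs B σ i n) ∈ K
    rw [hφxs]
    exact ε.dpow_mem (by omega) (hk i)
  · rintro m s ⟨i, n, hn, rfl⟩
    change φ (δplus.dpow m (xs B σ i n)) = ε.dpow m (φ (xs B σ i n))
    have hn0 : n ≠ 0 := by omega
    rw [← hδplus i n, δplus.dpow_comp hn0 (xs_mem_augIdeal i (le_refl _)), hδplus, hδplus,
      map_mul, map_natCast, hφxs, hφxs, ε.dpow_comp hn0 (hk i)]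

/-- Two `B`-algebra maps out of `B ⊗ ℤ⟨X⟩` agreeing on the divided monomials are equal. -/
theorem tensorModel_algHom_ext {φ φ' : B ⊗[ℤ] dpSubring σ →ₐ[B] C}
    (h : ∀ i n, φ (xs B σ i n) = φ' (xs B σ i n)) : φ = φ' := by
  apply Algebra.TensorProduct.ext
  · apply AlgHom.ext
    intro a
    simp only [AlgHom.coe_comp, Function.comp_apply, Algebra.TensorProduct.includeLeft_apply]
    have h1 : a ⊗ₜ[ℤ] (1 : dpSubring σ) = algebraMap B (B ⊗[ℤ] dpSubring σ) a := rfl
    rw [h1, AlgHom.commutes, AlgHom.commutes]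
  · have hr : ((φ.restrictScalars ℤ).comp Algebra.TensorProduct.includeRight :
        dpSubring σ →ₐ[ℤ] C).toRingHom =
        ((φ'.restrictScalars ℤ).comp Algebra.TensorProduct.includeRight :
        dpSubring σ →ₐ[ℤ] C).toRingHom := by
      apply dpHom_ext
      intro e
      change φ ((1 : B) ⊗ₜ[ℤ] dpMon σ e) = φ' ((1 : B) ⊗ₜ[ℤ] dpMon σ e)
      rw [← tBasis_apply, tBasis_eq_prod, map_finsuppProd, map_finsuppProd]
      refine Finsupp.prod_congr fun i _ => ?_
      rw [h]
    apply AlgHom.ext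
    intro d
    exact RingHom.congr_fun hr d

/-- Ring-hom version: two ring maps out of `B ⊗ ℤ⟨X⟩` agreeing on `B` and on the divided monomials
are equal. -/
theorem tensorModel_ringHom_ext {φ φ' : B ⊗[ℤ] dpSubring σ →+* C}
    (hB : ∀ b : B, φ (algebraMap B _ b) = φ' (algebraMap B _ b))
    (h : ∀ i n, φ (xs B σ i n) = φ' (xs B σ i n)) : φ = φ' := by
  apply RingHom.ext
  intro w
  induction w using TensorProduct.induction_on with
  | zero => rw [map_zero, map_zero]
  | tmul b d =>
    have h1 : b ⊗ₜ[ℤ] d = algebraMap B (B ⊗[ℤ] dpSubring σ) b * ((1 : B) ⊗ₜ[ℤ] d) := by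
      rw [Algebra.TensorProduct.algebraMap_apply, Algebra.TensorProduct.tmul_mul_tmul, one_mul,
        Algebra.algebraMap_self, RingHom.id_apply, mul_one]
    rw [h1, map_mul, map_mul, hB]
    congr 1
    have hr : (φ.comp (Algebra.TensorProduct.includeRight :
        dpSubring σ →ₐ[ℤ] B ⊗[ℤ] dpSubring σ).toRingHom) =
        (φ'.comp (Algebra.TensorProduct.includeRight :
        dpSubring σ →ₐ[ℤ] B ⊗[ℤ] dpSubring σ).toRingHom) := by
      apply dpHom_ext
      intro e
      change φ ((1 : B) ⊗ₜ[ℤ] dpMon σ e) = φ' ((1 : B) ⊗ₜ[ℤ] dpMon σ e)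
      rw [← tBasis_apply, tBasis_eq_prod, map_finsuppProd, map_finsuppProd]
      refine Finsupp.prod_congr fun i _ => ?_
      rw [h]
    exact RingHom.congr_fun hr d
  | add w w' hw hw' => rw [map_add, map_add, hw, hw']

end Lift

end Groth.Agent.Lib.Helper6.DP
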