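import Mathlib.RingTheory.DividedPowers.RatAlgebra
import Mathlib.RingTheory.DividedPowers.DPMorphism
import Mathlib.RingTheory.DividedPowers.SubDPIdeal
import Mathlib.RingTheory.PowerSeries.Basic
import Mathlib.RingTheory.Flat.Basic
import Mathlib.RingTheory.TensorProduct.Free
import Mathlib.RingTheory.TensorProduct.Maps
import Mathlib.LinearAlgebra.TensorProduct.Basic
import Mathlib.Tactic
import Groth.Agent.Lib.Helper6.DP.Lift

/-!
# The divided power envelope (helper6)
-/

set_option autoImplicit false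
set_option linter.unusedSectionVars false
set_option linter.unusedVariables false
set_option linter.unusedSimpArgs false
set_option linter.style.haveILetI false
set_option maxHeartbeats 400000
universe u v w

namespace Groth.Agent.Lib.Helper6.DP

open Finset TensorProduct

section Envelope

variable {A B : Type u} [CommRing A] [CommRing B] [Algebra A B] {I : Ideal A}
  (γ : DividedPowers I) (J : Ideal B) (hIJ : I.map (algebraMap A B) ≤ J)

/-- The relations defining the divided power envelope. -/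
def envRel [DecidableEq ↥J] : Set (B ⊗[ℤ] dpSubring ↥J) :=
  {y | ∃ t : ↥J, y = xs B ↥J t 1 - algebraMap B (B ⊗[ℤ] dpSubring ↥J) (t : B)} ∪
  {y | ∃ (a : A) (ha : a ∈ I) (n : ℕ), y =
    xs B ↥J ⟨algebraMap A B a, hIJ (Ideal.mem_map_of_mem _ ha)⟩ n -
      algebraMap B (B ⊗[ℤ] dpSubring ↥J) (algebraMap A B (γ.dpow n a))}

/-- The family of ideals containing the relations and stable under divided powers. -/
def envFam [DecidableEq ↥J] (δplus : DividedPowers (augIdeal (xs B ↥J))) :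
    Set (Ideal (B ⊗[ℤ] dpSubring ↥J)) :=
  {K' | envRel γ J hIJ ⊆ K' ∧ ∀ n : ℕ, n ≠ 0 → ∀ y ∈ K' ⊓ augIdeal (xs B ↥J),
    δplus.dpow n y ∈ K'}

/-- The ideal of relations of the divided power envelope. -/
noncomputable def envIdeal [DecidableEq ↥J] (δplus : DividedPowers (augIdeal (xs B ↥J))) :
    Ideal (B ⊗[ℤ] dpSubring ↥J) :=
  sInf (envFam γ J hIJ δplus)

variable [DecidableEq ↥J] (δplus : DividedPowers (augIdeal (xs B ↥J)))

/-- The underlying ring of the divided power envelope. -/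
abbrev EnvRing : Type u := (B ⊗[ℤ] dpSubring ↥J) ⧸ (envIdeal γ J hIJ δplus)

lemma envRel_subset : envRel γ J hIJ ⊆ envIdeal γ J hIJ δplus := by
  intro y hy
  rw [SetLike.mem_coe, envIdeal, Ideal.mem_sInf]
  intro K' hK'
  exact hK'.1 hy

lemma envIdeal_isSubDPIdeal :
    δplus.IsSubDPIdeal (envIdeal γ J hIJ δplus ⊓ augIdeal (xs B ↥J)) where
  isSubideal := inf_le_right
  dpow_mem n hn y hy := by
    have h1 : δplus.dpow n y ∈ envIdeal γ J hIJ δplus := by
      rw [envIdeal, Ideal.mem_sInf]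
      intro K' hK'
      refine hK'.2 n hn y ⟨?_, hy.2⟩
      have : y ∈ envIdeal γ J hIJ δplus := hy.1
      rw [envIdeal, Ideal.mem_sInf] at this
      exact this hK'
    exact ⟨h1, δplus.dpow_mem hn hy.2⟩

lemma envIdeal_le {K' : Ideal (B ⊗[ℤ] dpSubring ↥J)} (h : K' ∈ envFam γ J hIJ δplus) :
    envIdeal γ J hIJ δplus ≤ K' := sInf_le h

variable (hδplus : ∀ (i : ↥J) (n : ℕ), δplus.dpow n (xs B ↥J i 1) = xs B ↥J i n)

include hIJ hδplus in
/-- The divided power envelope. -/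
theorem exists_envelope_aux :
    ∃ (D : Type u) (_ : CommRing D) (_ : Algebra B D) (JD : Ideal D) (γD : DividedPowers JD),
      J.map (algebraMap B D) ≤ JD ∧
      γ.IsDPMorphism γD ((algebraMap B D).comp (algebraMap A B)) ∧
      ∀ (C : Type u) [CommRing C] [Algebra A C] (K : Ideal C) (δ : DividedPowers K),
        γ.IsDPMorphism δ (algebraMap A C) →
        ∀ ψ : B →ₐ[A] C, J.map ψ ≤ K →
          ∃! χ : D →+* C, χ.comp (algebraMap B D) = ψ ∧ γD.IsDPMorphism δ χ := by
  have hsub := envIdeal_isSubDPIdeal γ J hIJ δplus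
  have hmor : δplus.IsDPMorphism (DividedPowers.Quotient.dividedPowers δplus hsub) (Ideal.Quotient.mk (envIdeal γ J hIJ δplus)) :=
    DividedPowers.Quotient.isDPMorphism δplus hsub
  -- relation 1
  have hrel1 : ∀ t : ↥J, Ideal.Quotient.mk (envIdeal γ J hIJ δplus) (algebraMap B (B ⊗[ℤ] dpSubring ↥J) (t : B)) =
      Ideal.Quotient.mk (envIdeal γ J hIJ δplus) (xs B ↥J t 1) := by
    intro t
    rw [eq_comm, Ideal.Quotient.eq]
    exact envRel_subset γ J hIJ δplus (Or.inl ⟨t, rfl⟩)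
  have hrel2 : ∀ (a : A) (ha : a ∈ I) (n : ℕ),
      Ideal.Quotient.mk (envIdeal γ J hIJ δplus) (xs B ↥J ⟨algebraMap A B a, hIJ (Ideal.mem_map_of_mem _ ha)⟩ n) =
      Ideal.Quotient.mk (envIdeal γ J hIJ δplus) (algebraMap B (B ⊗[ℤ] dpSubring ↥J) (algebraMap A B (γ.dpow n a))) := by
    intro a ha n
    rw [Ideal.Quotient.eq]
    exact envRel_subset γ J hIJ δplus (Or.inr ⟨a, ha, n, rfl⟩)
  have hxmem : ∀ (t : ↥J), xs B ↥J t 1 ∈ augIdeal (xs B ↥J) := fun t => xs_mem_augIdeal t (le_refl _)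
  have hJle' : ∀ t ∈ J, Ideal.Quotient.mk (envIdeal γ J hIJ δplus)
      (algebraMap B (B ⊗[ℤ] dpSubring ↥J) t) ∈
        (augIdeal (xs B ↥J)).map (Ideal.Quotient.mk (envIdeal γ J hIJ δplus)) := by
    intro t ht
    rw [hrel1 ⟨t, ht⟩]
    exact Ideal.mem_map_of_mem _ (hxmem _)
  have hJle : Ideal.map (algebraMap B (EnvRing γ J hIJ δplus) : B →+* EnvRing γ J hIJ δplus) J ≤
      (augIdeal (xs B ↥J)).map (Ideal.Quotient.mk (envIdeal γ J hIJ δplus)) := by
    rw [Ideal.map_le_iff_le_comap]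
    intro t ht
    exact hJle' t ht
  refine ⟨EnvRing γ J hIJ δplus, inferInstance, inferInstance, (augIdeal (xs B ↥J)).map (Ideal.Quotient.mk (envIdeal γ J hIJ δplus)), (DividedPowers.Quotient.dividedPowers δplus hsub), hJle, ?_, ?_⟩
  · refine ⟨?_, fun {n} a ha => ?_⟩
    · rw [Ideal.map_le_iff_le_comap]
      intro a ha
      rw [Ideal.mem_comap]
      exact hJle (Ideal.mem_map_of_mem _ (hIJ (Ideal.mem_map_of_mem _ ha)))
    · change (DividedPowers.Quotient.dividedPowers δplus hsub).dpow n (Ideal.Quotient.mk (envIdeal γ J hIJ δplus) (algebraMap B (B ⊗[ℤ] dpSubring ↥J) (algebraMap A B a))) =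
        Ideal.Quotient.mk (envIdeal γ J hIJ δplus) (algebraMap B (B ⊗[ℤ] dpSubring ↥J) (algebraMap A B (γ.dpow n a)))
      rw [hrel1 ⟨algebraMap A B a, hIJ (Ideal.mem_map_of_mem _ ha)⟩, hmor.2 _ (hxmem _),
        hδplus, hrel2 a ha n]
  · intro C _ _ K δ hδ ψ hψ
    letI : Algebra B C := ψ.toRingHom.toAlgebra
    have hk : ∀ t : ↥J, ψ (t : B) ∈ K := fun t => hψ (Ideal.mem_map_of_mem _ t.2)
    obtain ⟨φ, hφ1, hφ2⟩ := exists_tensorModel_lift δplus hδplus δ (fun t : ↥J => ψ (t : B)) hk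
    have hφB : ∀ b : B, φ (algebraMap B (B ⊗[ℤ] dpSubring ↥J) b) = ψ b := fun b => φ.commutes b
    have hker : envIdeal γ J hIJ δplus ≤ RingHom.ker φ.toRingHom := by
      refine envIdeal_le γ J hIJ δplus ⟨?_, ?_⟩
      · rintro y (⟨t, rfl⟩ | ⟨a, ha, n, rfl⟩)
        · rw [SetLike.mem_coe, RingHom.mem_ker]
          change φ (xs B ↥J t 1 - algebraMap B (B ⊗[ℤ] dpSubring ↥J) (t : B)) = 0
          rw [map_sub, hφ1, hφB, δ.dpow_one (hk t), sub_self]
        · rw [SetLike.mem_coe, RingHom.mem_ker]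
          change φ (xs B ↥J ⟨algebraMap A B a, hIJ (Ideal.mem_map_of_mem _ ha)⟩ n -
            algebraMap B (B ⊗[ℤ] dpSubring ↥J) (algebraMap A B (γ.dpow n a))) = 0
          rw [map_sub, hφ1, hφB]
          change δ.dpow n (ψ (algebraMap A B a)) - ψ (algebraMap A B (γ.dpow n a)) = 0
          rw [ψ.commutes, ψ.commutes, hδ.2 a ha, sub_self]
      · intro n hn y hy
        rw [RingHom.mem_ker]
        have h0 : φ.toRingHom y = 0 := RingHom.mem_ker.mp hy.1
        rw [← hφ2.2 y hy.2, h0, δ.dpow_eval_zero hn]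
    set χ : EnvRing γ J hIJ δplus →+* C := Ideal.Quotient.lift (envIdeal γ J hIJ δplus) φ.toRingHom (fun a ha => hker ha) with hχ
    have hχmk : ∀ y : B ⊗[ℤ] dpSubring ↥J, χ (Ideal.Quotient.mk (envIdeal γ J hIJ δplus) y) = φ y := fun y => rfl
    have hχcomp : χ.comp (Ideal.Quotient.mk (envIdeal γ J hIJ δplus)) = φ.toRingHom := by
      apply RingHom.ext
      intro y
      rfl
    refine ⟨χ, ⟨?_, ?_⟩, ?_⟩
    · apply RingHom.ext
      intro b
      change χ (Ideal.Quotient.mk (envIdeal γ J hIJ δplus) (algebraMap B (B ⊗[ℤ] dpSubring ↥J) b)) = ψ b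
      rw [hχmk, hφB]
    · refine DividedPowers.IsDPMorphism.of_comp δplus (DividedPowers.Quotient.dividedPowers δplus hsub) δ (Ideal.Quotient.mk (envIdeal γ J hIJ δplus)) χ rfl hmor ?_
      rw [hχcomp]
      exact hφ2
    · rintro χ' ⟨hχ'1, hχ'2⟩
      apply Ideal.Quotient.ringHom_ext
      apply tensorModel_ringHom_ext
      · intro b
        have h1 := RingHom.congr_fun hχ'1 b
        change χ' (Ideal.Quotient.mk (envIdeal γ J hIJ δplus) (algebraMap B (B ⊗[ℤ] dpSubring ↥J) b)) = ψ b at h1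
        change χ' (Ideal.Quotient.mk (envIdeal γ J hIJ δplus) (algebraMap B (B ⊗[ℤ] dpSubring ↥J) b)) =
          χ (Ideal.Quotient.mk (envIdeal γ J hIJ δplus) (algebraMap B (B ⊗[ℤ] dpSubring ↥J) b))
        rw [h1, hχmk, hφB]
      · intro t n
        change χ' (Ideal.Quotient.mk (envIdeal γ J hIJ δplus) (xs B ↥J t n)) = χ (Ideal.Quotient.mk (envIdeal γ J hIJ δplus) (xs B ↥J t n))
        rw [hχmk, hφ1, ← hδplus t n, ← hmor.2 _ (hxmem t),
          ← hχ'2.2 _ (Ideal.mem_map_of_mem _ (hxmem t)), ← hrel1 t]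
        have h1 := RingHom.congr_fun hχ'1 (t : B)
        change χ' (Ideal.Quotient.mk (envIdeal γ J hIJ δplus) (algebraMap B (B ⊗[ℤ] dpSubring ↥J) (t : B))) = ψ (t : B) at h1
        rw [h1]

end Envelope

section Main

variable {A B : Type u} [CommRing A] [CommRing B] [Algebra A B] {I : Ideal A}
  (γ : DividedPowers I) (J : Ideal B) (hIJ : I.map (algebraMap A B) ≤ J)

include hIJ in
/-- Existence of the divided power envelope. -/
theorem exists_dividedPowerEnvelope :
    ∃ (D : Type u) (_ : CommRing D) (_ : Algebra B D) (JD : Ideal D) (γD : DividedPowers JD),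
      J.map (algebraMap B D) ≤ JD ∧
      γ.IsDPMorphism γD ((algebraMap B D).comp (algebraMap A B)) ∧
      ∀ (C : Type u) [CommRing C] [Algebra A C] (K : Ideal C) (δ : DividedPowers K),
        γ.IsDPMorphism δ (algebraMap A C) →
        ∀ ψ : B →ₐ[A] C, J.map ψ ≤ K →
          ∃! χ : D →+* C, χ.comp (algebraMap B D) = ψ ∧ γD.IsDPMorphism δ χ := by
  classical
  obtain ⟨δplus, hδplus⟩ := exists_dividedPowers_xs B ↥J
  exact exists_envelope_aux γ J hIJ δplus hδplus

end Main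

end Groth.Agent.Lib.Helper6.DP
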