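import Mathlib.Combinatorics.Enumerative.Bell
import Mathlib.NumberTheory.Padics.PadicVal.Basic
import Mathlib.Data.Nat.Choose.Basic
import Mathlib.Tactic

/-!
# Arithmetic of the numbers `N(n) = n! / ((p!)^(n/p) * (n/p)!)` (helper6)
-/

set_option autoImplicit false
set_option linter.unusedSectionVars false
set_option linter.unusedVariables false
set_option linter.unusedSimpArgs false
set_option linter.style.haveILetI false
set_option maxHeartbeats 400000

namespace Groth.Agent.Lib.Helper6.DP

open Nat

/-- `N(n) = n! / ((p!)^(n/p) * (n/p)!)`, a natural number prime to `p`. -/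
def pN (p n : ℕ) : ℕ := n.factorial / (p.factorial ^ (n / p) * (n / p).factorial)

section

variable {p : ℕ} (hp : p.Prime)

include hp in
lemma pN_mul (n : ℕ) :
    pN p n * (p.factorial ^ (n / p) * (n / p).factorial) = n.factorial := by
  rw [pN]
  apply Nat.div_mul_cancel
  have h1 := Nat.uniformBell_mul_eq (n / p) hp.ne_zero
  have h2 : (n / p * p).factorial ∣ n.factorial :=
    Nat.factorial_dvd_factorial (Nat.div_mul_le_self n p)
  refine Dvd.dvd.trans ?_ h2
  rw [← h1]
  exact ⟨Nat.uniformBell (n / p) p, by ring⟩

include hp in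
lemma pN_pos (n : ℕ) : 0 < pN p n := by
  rcases Nat.eq_zero_or_pos (pN p n) with h | h
  · have := pN_mul hp n
    rw [h, zero_mul] at this
    exact absurd this.symm (Nat.factorial_ne_zero n)
  · exact h

include hp in
lemma pN_not_dvd (n : ℕ) : ¬ p ∣ pN p n := by
  haveI := Fact.mk hp
  have h0 := pN_mul hp n
  have hv : padicValNat p (n.factorial) = padicValNat p (n / p).factorial + n / p := by
    conv_lhs => rw [← Nat.div_add_mod n p]
    rw [padicValNat_factorial_mul_add (n / p) (Nat.mod_lt n hp.pos), padicValNat_factorial_mul]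
  have hpf : padicValNat p p.factorial = 1 := by
    have := padicValNat_factorial_mul (p := p) 1
    rwa [mul_one, Nat.factorial_one, padicValNat_one_right, zero_add] at this
  have hN0 : pN p n ≠ 0 := (pN_pos hp n).ne'
  have hM0 : p.factorial ^ (n / p) * (n / p).factorial ≠ 0 :=
    Nat.mul_ne_zero (pow_ne_zero _ (Nat.factorial_ne_zero p)) (Nat.factorial_ne_zero _)
  rw [← h0, padicValNat.mul hN0 hM0,
    padicValNat.mul (pow_ne_zero _ (Nat.factorial_ne_zero p)) (Nat.factorial_ne_zero _),
    padicValNat.pow, hpf, mul_one] at hv
  have hz : padicValNat p (pN p n) = 0 := by omega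
  rcases padicValNat.eq_zero_iff.mp hz with h | h | h
  · exact absurd h hp.one_lt.ne'
  · exact absurd h hN0
  · exact h

include hp in
lemma pN_of_lt {n : ℕ} (h : n < p) : pN p n = n.factorial := by
  have := pN_mul hp n
  rwa [Nat.div_eq_of_lt h, pow_zero, Nat.factorial_zero, mul_one, mul_one] at this

include hp in
lemma pN_zero : pN p 0 = 1 := by
  rw [pN_of_lt hp hp.pos, Nat.factorial_zero]

include hp in
lemma pN_one : pN p 1 = 1 := by
  rw [pN_of_lt hp hp.one_lt, Nat.factorial_one]

include hp in
lemma pN_self : pN p p = 1 := by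
  have := pN_mul hp p
  rw [Nat.div_self hp.pos, pow_one, Nat.factorial_one, mul_one] at this
  exact Nat.eq_of_mul_eq_mul_right (Nat.factorial_pos p) (by rw [this, one_mul])

include hp in
/-- `N(n) = r! * uniformBell q p * C(qp + r, r)` for `n = qp + r`. -/
lemma pN_eq (n : ℕ) :
    pN p n = (n % p).factorial * Nat.uniformBell (n / p) p *
      (n / p * p + n % p).choose (n % p) := by
  have hM : 0 < p.factorial ^ (n / p) * (n / p).factorial :=
    Nat.mul_pos (pow_pos (Nat.factorial_pos p) _) (Nat.factorial_pos _)
  apply Nat.eq_of_mul_eq_mul_right hM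
  rw [pN_mul hp n]
  have h1 := Nat.uniformBell_mul_eq (n / p) hp.ne_zero
  have h2 := Nat.add_choose_mul_factorial_mul_factorial (n / p * p) (n % p)
  have h3 : n / p * p + n % p = n := Nat.div_add_mod' n p
  calc n.factorial = (n / p * p + n % p).factorial := by rw [h3]
    _ = (n / p * p + n % p).choose (n % p) * (n / p * p).factorial * (n % p).factorial := h2.symm
    _ = (n / p * p + n % p).choose (n % p) *
          (Nat.uniformBell (n / p) p * p.factorial ^ (n / p) * (n / p).factorial) *
          (n % p).factorial := by rw [h1]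
    _ = _ := by ring

include hp in
/-- Identity used for the product rule, no carry. -/
lemma pN_add_of_lt {n m : ℕ} (h : n % p + m % p < p) :
    (n / p + m / p).choose (n / p) * pN p (n + m) = pN p n * pN p m * (n + m).choose n := by
  have hdiv : (n + m) / p = n / p + m / p := by
    rw [Nat.add_div hp.pos, if_neg (by omega), add_zero]
  have hM : 0 < (p.factorial ^ (n / p) * (n / p).factorial) *
      (p.factorial ^ (m / p) * (m / p).factorial) :=
    Nat.mul_pos (Nat.mul_pos (pow_pos (Nat.factorial_pos p) _) (Nat.factorial_pos _))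
      (Nat.mul_pos (pow_pos (Nat.factorial_pos p) _) (Nat.factorial_pos _))
  apply Nat.eq_of_mul_eq_mul_right hM
  have e1 := pN_mul hp n
  have e2 := pN_mul hp m
  have e3 := pN_mul hp (n + m)
  rw [hdiv] at e3
  have e4 := Nat.add_choose_mul_factorial_mul_factorial (m / p) (n / p)
  have e5 := Nat.add_choose_mul_factorial_mul_factorial m n
  have e4' : (n / p + m / p).choose (n / p) * (m / p).factorial * (n / p).factorial =
      (n / p + m / p).factorial := by
    rw [add_comm (n / p) (m / p)]
    exact e4
  have e5' : (n + m).choose n * m.factorial * n.factorial = (n + m).factorial := by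
    rw [add_comm n m]
    exact e5
  calc (n / p + m / p).choose (n / p) * pN p (n + m) *
        ((p.factorial ^ (n / p) * (n / p).factorial) * (p.factorial ^ (m / p) * (m / p).factorial))
      = pN p (n + m) * (p.factorial ^ (n / p + m / p) *
          ((n / p + m / p).choose (n / p) * (m / p).factorial * (n / p).factorial)) := by ring
    _ = (n + m).factorial := by rw [e4', e3]
    _ = (n + m).choose n * m.factorial * n.factorial := e5'.symm
    _ = (n + m).choose n * (pN p m * (p.factorial ^ (m / p) * (m / p).factorial)) *
          (pN p n * (p.factorial ^ (n / p) * (n / p).factorial)) := by rw [e1, e2]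
    _ = _ := by ring

include hp in
/-- Identity used for the product rule, with carry. -/
lemma pN_add_of_le {n m : ℕ} (h : p ≤ n % p + m % p) :
    (n / p + m / p).choose (n / p) * p.factorial * (n / p + m / p + 1) * pN p (n + m) =
      pN p n * pN p m * (n + m).choose n := by
  have hdiv : (n + m) / p = n / p + m / p + 1 := by
    rw [Nat.add_div hp.pos, if_pos h]
  have hM : 0 < (p.factorial ^ (n / p) * (n / p).factorial) *
      (p.factorial ^ (m / p) * (m / p).factorial) :=
    Nat.mul_pos (Nat.mul_pos (pow_pos (Nat.factorial_pos p) _) (Nat.factorial_pos _))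
      (Nat.mul_pos (pow_pos (Nat.factorial_pos p) _) (Nat.factorial_pos _))
  apply Nat.eq_of_mul_eq_mul_right hM
  have e1 := pN_mul hp n
  have e2 := pN_mul hp m
  have e3 := pN_mul hp (n + m)
  rw [hdiv] at e3
  have e4 := Nat.add_choose_mul_factorial_mul_factorial (m / p) (n / p)
  have e5 := Nat.add_choose_mul_factorial_mul_factorial m n
  have e4' : (n / p + m / p).choose (n / p) * (m / p).factorial * (n / p).factorial =
      (n / p + m / p).factorial := by
    rw [add_comm (n / p) (m / p)]
    exact e4
  have e5' : (n + m).choose n * m.factorial * n.factorial = (n + m).factorial := by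
    rw [add_comm n m]
    exact e5
  have e6 : (n / p + m / p + 1).factorial = (n / p + m / p + 1) * (n / p + m / p).factorial :=
    Nat.factorial_succ _
  calc (n / p + m / p).choose (n / p) * p.factorial * (n / p + m / p + 1) * pN p (n + m) *
        ((p.factorial ^ (n / p) * (n / p).factorial) * (p.factorial ^ (m / p) * (m / p).factorial))
      = pN p (n + m) * (p.factorial ^ (n / p + m / p + 1) *
          ((n / p + m / p + 1) *
            ((n / p + m / p).choose (n / p) * (m / p).factorial * (n / p).factorial))) := by ring
    _ = (n + m).factorial := by rw [e4', ← e6, e3]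
    _ = (n + m).choose n * m.factorial * n.factorial := e5'.symm
    _ = (n + m).choose n * (pN p m * (p.factorial ^ (m / p) * (m / p).factorial)) *
          (pN p n * (p.factorial ^ (n / p) * (n / p).factorial)) := by rw [e1, e2]
    _ = _ := by ring

include hp in
lemma pN_mul_self_div (k : ℕ) : (p * k) / p = k ∧ (p * k) % p = 0 :=
  ⟨Nat.mul_div_cancel_left k hp.pos, Nat.mul_mod_right p k⟩

include hp in
/-- Identity for `d(c_k)`, `k < p`. -/
lemma pN_comp_of_lt {k : ℕ} (hk0 : k ≠ 0) (hk : k < p) :
    k.factorial ^ p * Nat.uniformBell p k =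
      p.factorial ^ (k - 1) * k.factorial * pN p (p * k) := by
  apply Nat.eq_of_mul_eq_mul_right (Nat.factorial_pos p)
  have e1 := Nat.uniformBell_mul_eq p hk0
  have e2 := pN_mul hp (p * k)
  rw [(pN_mul_self_div hp k).1] at e2
  have e3 : p.factorial ^ (k - 1) * p.factorial = p.factorial ^ k := by
    rw [← pow_succ]
    congr 1
    omega
  calc k.factorial ^ p * Nat.uniformBell p k * p.factorial
      = Nat.uniformBell p k * k.factorial ^ p * p.factorial := by ring
    _ = (p * k).factorial := e1
    _ = pN p (p * k) * (p.factorial ^ k * k.factorial) := e2.symm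
    _ = pN p (p * k) * ((p.factorial ^ (k - 1) * p.factorial) * k.factorial) := by rw [e3]
    _ = _ := by ring

include hp in
/-- Identity for `d(c_k)`, `k ≥ p`. -/
lemma pN_comp_of_le {k : ℕ} (hk : p ≤ k) :
    p.factorial ^ (k % p) * (k % p).factorial * Nat.uniformBell p (k / p) *
      (k / p * p + k % p).choose (k % p) * pN p (p * k) =
      pN p k ^ p * Nat.uniformBell p k := by
  have hq0 : k / p ≠ 0 := (Nat.div_pos hk hp.pos).ne'
  have hk0 : k ≠ 0 := by
    have := hp.pos
    omega
  have hM : 0 < (p.factorial ^ (k / p) * (k / p).factorial) ^ p * p.factorial :=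
    Nat.mul_pos (pow_pos (Nat.mul_pos (pow_pos (Nat.factorial_pos p) _) (Nat.factorial_pos _)) _)
      (Nat.factorial_pos p)
  apply Nat.eq_of_mul_eq_mul_right hM
  have e1 := pN_mul hp k
  have e2 := pN_mul hp (p * k)
  rw [(pN_mul_self_div hp k).1] at e2
  have e3 := Nat.uniformBell_mul_eq p hq0
  have e4 := Nat.uniformBell_mul_eq p hk0
  have e5 := Nat.add_choose_mul_factorial_mul_factorial (k / p * p) (k % p)
  have e6 : k / p * p + k % p = k := Nat.div_add_mod' k p
  have e7 : p * (k / p) = k / p * p := mul_comm _ _
  rw [e7] at e3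
  calc p.factorial ^ (k % p) * (k % p).factorial * Nat.uniformBell p (k / p) *
        (k / p * p + k % p).choose (k % p) * pN p (p * k) *
        ((p.factorial ^ (k / p) * (k / p).factorial) ^ p * p.factorial)
      = (Nat.uniformBell p (k / p) * (k / p).factorial ^ p * p.factorial) *
          ((k / p * p + k % p).choose (k % p) * (k % p).factorial) * pN p (p * k) *
          p.factorial ^ (k / p * p + k % p) := by ring
    _ = ((k / p * p + k % p).choose (k % p) * (k / p * p).factorial * (k % p).factorial) *
          pN p (p * k) * p.factorial ^ (k / p * p + k % p) := by rw [e3]; ring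
    _ = k.factorial * pN p (p * k) * p.factorial ^ k := by rw [e5, e6]
    _ = pN p (p * k) * (p.factorial ^ k * k.factorial) := by ring
    _ = (p * k).factorial := e2
    _ = Nat.uniformBell p k * k.factorial ^ p * p.factorial := e4.symm
    _ = Nat.uniformBell p k * (pN p k * (p.factorial ^ (k / p) * (k / p).factorial)) ^ p *
          p.factorial := by rw [e1]
    _ = _ := by ring

end

end Groth.Agent.Lib.Helper6.DP
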