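import Mathlib.RingTheory.DividedPowers.RatAlgebra
import Mathlib.RingTheory.DividedPowers.DPMorphism
import Mathlib.Algebra.MvPolynomial.CommRing
import Mathlib.LinearAlgebra.Basis.Basic
import Mathlib.Combinatorics.Enumerative.Bell
import Mathlib.Data.Nat.Prime.Factorial
import Mathlib.Tactic
import Groth.Agent.Lib.Helper6.DP.PArith
import Groth.Agent.Lib.Helper6.DP.FromGens

/-!
# Divided power structures determined by their `p`-th divided power (helper6)
-/

set_option autoImplicit false
set_option linter.unusedSectionVars false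
set_option linter.unusedVariables false
set_option linter.unusedSimpArgs false
set_option linter.style.haveILetI false
set_option maxHeartbeats 400000
universe u v w

namespace Groth.Agent.Lib.Helper6.DP

open Finset

section ArithAux

variable {p : ℕ} (hp : p.Prime)

include hp in
lemma add_div_mod_of_lt {n m : ℕ} (h : n % p + m % p < p) :
    (n + m) / p = n / p + m / p ∧ (n + m) % p = n % p + m % p := by
  refine ⟨?_, ?_⟩
  · rw [Nat.add_div hp.pos, if_neg (by omega), add_zero]
  · rw [Nat.add_mod, Nat.mod_eq_of_lt h]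

include hp in
lemma add_div_mod_of_le {n m : ℕ} (h : p ≤ n % p + m % p) :
    (n + m) / p = n / p + m / p + 1 ∧ (n + m) % p = n % p + m % p - p := by
  refine ⟨?_, ?_⟩
  · rw [Nat.add_div hp.pos, if_pos h]
  · rw [Nat.add_mod, Nat.mod_eq_sub_mod h]
    apply Nat.mod_eq_of_lt
    have h1 := Nat.mod_lt n hp.pos
    have h2 := Nat.mod_lt m hp.pos
    omega

end ArithAux

section CDP

variable {A : Type u} [CommRing A] (p : ℕ) (d : A → A)

/-- The candidate divided powers: `c_n(x) = N(n)⁻¹ x^(n % p) c_(n / p)(d x)`. -/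
noncomputable def cdp : ℕ → A → A
  | 0, _ => 1
  | (n + 1), x =>
    if hp : 2 ≤ p then
      Ring.inverse ((pN p (n + 1) : ℕ) : A) * (x ^ ((n + 1) % p) * cdp ((n + 1) / p) (d x))
    else 0
termination_by n => n
decreasing_by exact Nat.div_lt_self (Nat.succ_pos n) hp

lemma cdp_zero (x : A) : cdp p d 0 x = 1 := by
  rw [cdp]

lemma cdp_succ (hp2 : 2 ≤ p) (n : ℕ) (x : A) :
    cdp p d (n + 1) x = Ring.inverse ((pN p (n + 1) : ℕ) : A) *
      (x ^ ((n + 1) % p) * cdp p d ((n + 1) / p) (d x)) := by
  rw [cdp, dif_pos hp2]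

variable {p} (hp : p.Prime) (hA : ∀ n : ℕ, ¬ p ∣ n → IsUnit (n : A))

include hp hA in
lemma isUnit_pN (n : ℕ) : IsUnit ((pN p n : ℕ) : A) := hA _ (pN_not_dvd hp n)

include hp hA in
lemma cdp_rec (n : ℕ) (x : A) :
    ((pN p n : ℕ) : A) * cdp p d n x = x ^ (n % p) * cdp p d (n / p) (d x) := by
  cases n with
  | zero => rw [pN_zero hp, Nat.cast_one, one_mul, Nat.zero_mod, Nat.zero_div, pow_zero,
      one_mul, cdp_zero, cdp_zero]
  | succ n =>
    rw [cdp_succ p d hp.two_le, ← mul_assoc, Ring.mul_inverse_cancel _ (isUnit_pN hp hA _),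
      one_mul]

include hp hA in
lemma cdp_eq (n : ℕ) (x : A) :
    cdp p d n x = Ring.inverse ((pN p n : ℕ) : A) * (x ^ (n % p) * cdp p d (n / p) (d x)) := by
  rw [← cdp_rec d hp hA, ← mul_assoc, Ring.inverse_mul_cancel _ (isUnit_pN hp hA _), one_mul]

include hp hA in
lemma cdp_one (x : A) : cdp p d 1 x = x := by
  have h := cdp_rec d hp hA 1 x
  rwa [pN_one hp, Nat.cast_one, one_mul, Nat.mod_eq_of_lt hp.one_lt,
    Nat.div_eq_of_lt hp.one_lt, cdp_zero, pow_one, mul_one] at h

include hp hA in
lemma cdp_self (x : A) : cdp p d p x = d x := by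
  have h := cdp_rec d hp hA p x
  rwa [pN_self hp, Nat.cast_one, one_mul, Nat.mod_self, Nat.div_self hp.pos, pow_zero, one_mul,
    cdp_one d hp hA] at h

variable {I : Ideal A} (hdI : ∀ x ∈ I, d x ∈ I)
  (h1 : ∀ x ∈ I, (p.factorial : A) * d x = x ^ p)
  (h2 : ∀ (a x : A), x ∈ I → d (a * x) = a ^ p * d x)

include hp hA hdI in
lemma cdp_mem : ∀ n : ℕ, n ≠ 0 → ∀ x ∈ I, cdp p d n x ∈ I := by
  intro n
  induction n using Nat.strong_induction_on with
  | _ n ih =>
    intro hn x hx
    rw [cdp_eq d hp hA]
    refine I.mul_mem_left _ ?_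
    by_cases hr : n % p = 0
    · have hq0 : n / p ≠ 0 := by
        intro h0
        have := Nat.div_add_mod n p
        rw [h0, hr] at this
        omega
      have hqlt : n / p < n := Nat.div_lt_self (Nat.pos_of_ne_zero hn) hp.one_lt
      exact I.mul_mem_left _ (ih _ hqlt hq0 _ (hdI x hx))
    · exact I.mul_mem_right _ (I.pow_mem_of_mem hx _ (Nat.pos_of_ne_zero hr))

include hp hA hdI h1 in
lemma cdp_fac : ∀ n : ℕ, ∀ x ∈ I, (n.factorial : A) * cdp p d n x = x ^ n := by
  intro n
  induction n using Nat.strong_induction_on with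
  | _ n ih =>
    intro x hx
    rcases Nat.eq_zero_or_pos n with rfl | hn
    · rw [Nat.factorial_zero, Nat.cast_one, one_mul, cdp_zero, pow_zero]
    have hqlt : n / p < n := Nat.div_lt_self hn hp.one_lt
    have e1 : (n.factorial : A) = ((pN p n : ℕ) : A) *
        ((p.factorial : A) ^ (n / p) * ((n / p).factorial : A)) := by
      have := pN_mul hp n
      exact_mod_cast congrArg (Nat.cast : ℕ → A) this.symm
    have e2 := ih _ hqlt (d x) (hdI x hx)
    have e3 := cdp_rec d hp hA n x
    calc (n.factorial : A) * cdp p d n x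
        = ((p.factorial : A) ^ (n / p) * ((n / p).factorial : A)) *
            (((pN p n : ℕ) : A) * cdp p d n x) := by rw [e1]; ring
      _ = x ^ (n % p) * ((p.factorial : A) ^ (n / p) *
            (((n / p).factorial : A) * cdp p d (n / p) (d x))) := by rw [e3]; ring
      _ = x ^ (n % p) * ((p.factorial : A) * d x) ^ (n / p) := by rw [e2, mul_pow]
      _ = x ^ (n % p) * (x ^ p) ^ (n / p) := by rw [h1 x hx]
      _ = x ^ n := by
        rw [← pow_mul, ← pow_add]
        congr 1
        have := Nat.div_add_mod n p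
        omega

include hp hA hdI h2 in
lemma cdp_mul : ∀ n : ℕ, ∀ (a : A), ∀ x ∈ I, cdp p d n (a * x) = a ^ n * cdp p d n x := by
  intro n
  induction n using Nat.strong_induction_on with
  | _ n ih =>
    intro a x hx
    rcases Nat.eq_zero_or_pos n with rfl | hn
    · rw [cdp_zero, cdp_zero, pow_zero, one_mul]
    have hqlt : n / p < n := Nat.div_lt_self hn hp.one_lt
    rw [cdp_eq d hp hA n (a * x), cdp_eq d hp hA n x, h2 a x hx,
      ih _ hqlt (a ^ p) (d x) (hdI x hx), mul_pow]
    have e : a ^ n = a ^ (n % p) * (a ^ p) ^ (n / p) := by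
      rw [← pow_mul, ← pow_add]
      congr 1
      have := Nat.div_add_mod n p
      omega
    rw [e]
    ring

include hp hA hdI h1 in
lemma cdp_mul_cdp : ∀ (s n m : ℕ), n + m = s → ∀ x ∈ I,
    cdp p d n x * cdp p d m x = ((n + m).choose n : A) * cdp p d (n + m) x := by
  intro s
  induction s using Nat.strong_induction_on with
  | _ s ih =>
    intro n m hs x hx
    rcases Nat.eq_zero_or_pos s with hs0 | hspos
    · have hn : n = 0 := by omega
      have hm : m = 0 := by omega
      subst hn hm
      simp [cdp_zero]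
    have hU : IsUnit (((pN p n : ℕ) : A) * ((pN p m : ℕ) : A)) :=
      (isUnit_pN hp hA n).mul (isUnit_pN hp hA m)
    apply hU.mul_left_cancel
    have hdx : d x ∈ I := hdI x hx
    have hlt : n / p + m / p < s := by
      have h3 : n / p + m / p ≤ (n + m) / p := Nat.div_add_div_le_add_div
      have h4 : (n + m) / p < n + m := Nat.div_lt_self (by omega) hp.one_lt
      omega
    have key : ((pN p n : ℕ) : A) * ((pN p m : ℕ) : A) * (cdp p d n x * cdp p d m x) =
        x ^ (n % p + m % p) * (((n / p + m / p).choose (n / p) : A) *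
          cdp p d (n / p + m / p) (d x)) := by
      rw [← ih _ hlt (n / p) (m / p) rfl (d x) hdx, pow_add]
      have e1 := cdp_rec d hp hA n x
      have e2 := cdp_rec d hp hA m x
      calc ((pN p n : ℕ) : A) * ((pN p m : ℕ) : A) * (cdp p d n x * cdp p d m x)
          = (((pN p n : ℕ) : A) * cdp p d n x) * (((pN p m : ℕ) : A) * cdp p d m x) := by ring
        _ = _ := by rw [e1, e2]; ring
    rw [key]
    by_cases hc : n % p + m % p < p
    · obtain ⟨hdiv, hmod⟩ := add_div_mod_of_lt hp hc
      have e3 := cdp_rec d hp hA (n + m) x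
      rw [hdiv, hmod] at e3
      have idA : ((n / p + m / p).choose (n / p) : A) * ((pN p (n + m) : ℕ) : A) =
          ((pN p n : ℕ) : A) * ((pN p m : ℕ) : A) * ((n + m).choose n : A) := by
        exact_mod_cast congrArg (Nat.cast : ℕ → A) (pN_add_of_lt hp hc)
      calc x ^ (n % p + m % p) * (((n / p + m / p).choose (n / p) : A) *
            cdp p d (n / p + m / p) (d x))
          = ((n / p + m / p).choose (n / p) : A) *
              (x ^ (n % p + m % p) * cdp p d (n / p + m / p) (d x)) := by ring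
        _ = (((n / p + m / p).choose (n / p) : A) * ((pN p (n + m) : ℕ) : A)) *
              cdp p d (n + m) x := by rw [← e3]; ring
        _ = _ := by rw [idA]; ring
    · push Not at hc
      obtain ⟨hdiv, hmod⟩ := add_div_mod_of_le hp hc
      have e3 := cdp_rec d hp hA (n + m) x
      rw [hdiv, hmod] at e3
      have hxp : x ^ (n % p + m % p) = x ^ (n % p + m % p - p) * ((p.factorial : A) * d x) := by
        rw [h1 x hx, ← pow_add]
        congr 1
        omega
      have hlt2 : 1 + (n / p + m / p) < s := by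
        have hn := Nat.div_add_mod n p
        have hm := Nat.div_add_mod m p
        have h2le := hp.two_le
        have h5 : 2 * (n / p + m / p) ≤ p * (n / p) + p * (m / p) := by
          rw [← Nat.mul_add]
          exact Nat.mul_le_mul_right _ h2le
        omega
      have e4 := ih _ hlt2 1 (n / p + m / p) rfl (d x) hdx
      rw [cdp_one d hp hA, Nat.choose_one_right] at e4
      have idB : ((n / p + m / p).choose (n / p) : A) * (p.factorial : A) *
          ((n / p + m / p + 1 : ℕ) : A) * ((pN p (n + m) : ℕ) : A) =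
          ((pN p n : ℕ) : A) * ((pN p m : ℕ) : A) * ((n + m).choose n : A) := by
        exact_mod_cast congrArg (Nat.cast : ℕ → A) (pN_add_of_le hp hc)
      have e5 : (1 + (n / p + m / p) : ℕ) = n / p + m / p + 1 := by ring
      rw [e5] at e4
      calc x ^ (n % p + m % p) * (((n / p + m / p).choose (n / p) : A) *
            cdp p d (n / p + m / p) (d x))
          = ((n / p + m / p).choose (n / p) : A) * (p.factorial : A) *
              (x ^ (n % p + m % p - p) * (d x * cdp p d (n / p + m / p) (d x))) := by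
            rw [hxp]; ring
        _ = ((n / p + m / p).choose (n / p) : A) * (p.factorial : A) *
              ((n / p + m / p + 1 : ℕ) : A) *
              (x ^ (n % p + m % p - p) * cdp p d (n / p + m / p + 1) (d x)) := by
            rw [e4]; ring
        _ = (((n / p + m / p).choose (n / p) : A) * (p.factorial : A) *
              ((n / p + m / p + 1 : ℕ) : A) * ((pN p (n + m) : ℕ) : A)) *
              cdp p d (n + m) x := by rw [← e3]; ring
        _ = _ := by rw [idB]; ring

include hp hA hdI h1 h2 in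
lemma cdp_d : ∀ k : ℕ, k ≠ 0 → ∀ x ∈ I,
    d (cdp p d k x) = (Nat.uniformBell p k : A) * cdp p d (p * k) x := by
  intro k
  induction k using Nat.strong_induction_on with
  | _ k ih =>
    intro hk0 x hx
    have hdx : d x ∈ I := hdI x hx
    have eR' : ((pN p (p * k) : ℕ) : A) * cdp p d (p * k) x = cdp p d k (d x) := by
      have := cdp_rec d hp hA (p * k) x
      rwa [(pN_mul_self_div hp k).1, (pN_mul_self_div hp k).2, pow_zero, one_mul] at this
    have hck : cdp p d k x ∈ I := cdp_mem d hp hA hdI k hk0 x hx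
    by_cases hk : k < p
    · have hUk : IsUnit ((k.factorial : ℕ) : A) :=
        hA _ (fun hdvd => absurd ((Nat.Prime.dvd_factorial hp).mp hdvd) (not_le.mpr hk))
      have hF := cdp_fac d hp hA hdI h1 k x hx
      have hFd := cdp_fac d hp hA hdI h1 k (d x) hdx
      have hxk : x ^ k = x ^ (k - 1) * x := by
        rw [← pow_succ]
        congr 1
        omega
      have e1 : ((k.factorial : ℕ) : A) ^ p * d (cdp p d k x) =
          (p.factorial : A) ^ (k - 1) * (d x) ^ k := by
        rw [← h2 _ _ hck, hF, hxk, h2 _ _ hx, ← pow_mul, mul_comm (k - 1) p, pow_mul,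
          ← h1 x hx, mul_pow, mul_assoc, ← pow_succ]
        congr 3
        omega
      have id5 : ((k.factorial : ℕ) : A) ^ p * (Nat.uniformBell p k : A) =
          (p.factorial : A) ^ (k - 1) * ((k.factorial : ℕ) : A) * ((pN p (p * k) : ℕ) : A) := by
        exact_mod_cast congrArg (Nat.cast : ℕ → A) (pN_comp_of_lt hp hk0 hk)
      apply (hUk.pow p).mul_left_cancel
      rw [e1, ← hFd, ← eR', ← mul_assoc (((k.factorial : ℕ) : A) ^ p), id5]
      ring
    · push Not at hk
      have hq0 : k / p ≠ 0 := (Nat.div_pos hk hp.pos).ne'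
      have hqlt : k / p < k := Nat.div_lt_self (Nat.pos_of_ne_zero hk0) hp.one_lt
      have eR := cdp_rec d hp hA k x
      have hcq : cdp p d (k / p) (d x) ∈ I := cdp_mem d hp hA hdI _ hq0 _ hdx
      have e1 : ((pN p k : ℕ) : A) ^ p * d (cdp p d k x) =
          (x ^ (k % p)) ^ p * ((Nat.uniformBell p (k / p) : A) *
            cdp p d (p * (k / p)) (d x)) := by
        rw [← h2 _ _ hck, eR, h2 _ _ hcq, ih _ hqlt hq0 _ hdx]
      have e2 : (x ^ (k % p)) ^ p = (p.factorial : A) ^ (k % p) *
          (((k % p).factorial : A) * cdp p d (k % p) (d x)) := by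
        rw [cdp_fac d hp hA hdI h1 (k % p) (d x) hdx, ← pow_mul, mul_comm, pow_mul, ← h1 x hx,
          mul_pow]
      have e3 := cdp_mul_cdp d hp hA hdI h1 _ (k % p) (p * (k / p)) rfl (d x) hdx
      have hkeq : k % p + p * (k / p) = k := Nat.mod_add_div k p
      have hkeq' : k / p * p + k % p = k := Nat.div_add_mod' k p
      rw [hkeq] at e3
      have id5 : (p.factorial : A) ^ (k % p) * ((k % p).factorial : A) *
          (Nat.uniformBell p (k / p) : A) * (k.choose (k % p) : A) *
          ((pN p (p * k) : ℕ) : A) = ((pN p k : ℕ) : A) ^ p * (Nat.uniformBell p k : A) := by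
        have := pN_comp_of_le hp hk
        rw [hkeq'] at this
        exact_mod_cast congrArg (Nat.cast : ℕ → A) this
      apply ((isUnit_pN hp hA k).pow p).mul_left_cancel
      rw [e1, e2]
      calc (p.factorial : A) ^ (k % p) * (((k % p).factorial : A) * cdp p d (k % p) (d x)) *
            ((Nat.uniformBell p (k / p) : A) * cdp p d (p * (k / p)) (d x))
          = (p.factorial : A) ^ (k % p) * ((k % p).factorial : A) *
              (Nat.uniformBell p (k / p) : A) *
              (cdp p d (k % p) (d x) * cdp p d (p * (k / p)) (d x)) := by ring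
        _ = (p.factorial : A) ^ (k % p) * ((k % p).factorial : A) *
              (Nat.uniformBell p (k / p) : A) * (k.choose (k % p) : A) *
              cdp p d k (d x) := by rw [e3]; ring
        _ = ((p.factorial : A) ^ (k % p) * ((k % p).factorial : A) *
              (Nat.uniformBell p (k / p) : A) * (k.choose (k % p) : A) *
              ((pN p (p * k) : ℕ) : A)) * cdp p d (p * k) x := by rw [← eR']; ring
        _ = _ := by rw [id5]; ring

end CDP

section DPRec

variable {R : Type u} [CommRing R] {J : Ideal R} (γ : DividedPowers J) {p : ℕ} (hp : p.Prime)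

include hp in
/-- The recursion satisfied by every divided power structure. -/
lemma dpow_rec (n : ℕ) {f : R} (hf : f ∈ J) :
    ((pN p n : ℕ) : R) * γ.dpow n f = f ^ (n % p) * γ.dpow (n / p) (γ.dpow p f) := by
  have h1 := γ.dpow_comp (m := n / p) hp.ne_zero hf
  have h2 := DividedPowers.factorial_mul_dpow_eq_pow γ (n := n % p) hf
  have h3 := γ.mul_dpow (m := n / p * p) (n := n % p) hf
  have h4 : n / p * p + n % p = n := Nat.div_add_mod' n p
  rw [h4] at h3
  have h5 : pN p n = (n % p).factorial * Nat.uniformBell (n / p) p * n.choose (n / p * p) := by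
    have h6 : (n / p * p + n % p).choose (n % p) = (n / p * p + n % p).choose (n / p * p) :=
      (Nat.choose_symm_add).symm
    have := pN_eq hp n
    rw [h6, h4] at this
    exact this
  rw [h1, ← h2, h5]
  push_cast
  calc ((n % p).factorial : R) * (Nat.uniformBell (n / p) p : R) * (n.choose (n / p * p) : R) *
        γ.dpow n f
      = ((n % p).factorial : R) * (Nat.uniformBell (n / p) p : R) *
          ((n.choose (n / p * p) : R) * γ.dpow n f) := by ring
    _ = ((n % p).factorial : R) * (Nat.uniformBell (n / p) p : R) *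
          (γ.dpow (n / p * p) f * γ.dpow (n % p) f) := by rw [h3]
    _ = _ := by ring

end DPRec

section Model

variable {A : Type u} [CommRing A] {p : ℕ} (d : A → A) (hp : p.Prime)
  (hA : ∀ n : ℕ, ¬ p ∣ n → IsUnit (n : A)) {I : Ideal A} (hdI : ∀ x ∈ I, d x ∈ I)
  (h1 : ∀ x ∈ I, (p.factorial : A) * d x = x ^ p)
  (h2 : ∀ (a x : A), x ∈ I → d (a * x) = a ^ p * d x)
  (h3 : ∀ x ∈ I, ∀ y ∈ I, d (x + y) = d x + d y +
      ((Finset.antidiagonal p).filter fun k => 0 < k.1 ∧ 0 < k.2).sum
        fun k => Ring.inverse ((k.1.factorial * k.2.factorial : ℕ) : A) * x ^ k.1 * y ^ k.2)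

include hp in
lemma sum_antidiagonal_split (T : ℕ × ℕ → A) :
    ∑ k ∈ antidiagonal p, T k = T (p, 0) + T (0, p) +
      ∑ k ∈ (antidiagonal p).filter (fun k => 0 < k.1 ∧ 0 < k.2), T k := by
  have hset : (antidiagonal p).filter (fun k => ¬(0 < k.1 ∧ 0 < k.2)) = {(p, 0), (0, p)} := by
    ext ⟨a, b⟩
    simp only [Finset.mem_filter, Finset.mem_antidiagonal, Finset.mem_insert,
      Finset.mem_singleton, Prod.mk.injEq]
    omega
  have hne : ((p, 0) : ℕ × ℕ) ≠ (0, p) := by
    intro h
    have := hp.pos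
    simp only [Prod.mk.injEq] at h
    omega
  rw [← Finset.sum_filter_add_sum_filter_not (antidiagonal p) (fun k => 0 < k.1 ∧ 0 < k.2),
    hset, Finset.sum_pair hne]
  ring

include hp hA hdI h1 in
lemma cdp_of_lt {n : ℕ} (hn : n < p) {y : A} (hy : y ∈ I) :
    cdp p d n y = Ring.inverse ((n.factorial : ℕ) : A) * y ^ n := by
  have hU : IsUnit ((n.factorial : ℕ) : A) :=
    hA _ (fun hdvd => absurd ((Nat.Prime.dvd_factorial hp).mp hdvd) (not_le.mpr hn))
  rw [← cdp_fac d hp hA hdI h1 n y hy, ← mul_assoc, Ring.inverse_mul_cancel _ hU, one_mul]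

variable {σ : Type w} (x : σ → A) (hx : ∀ i, x i ∈ I)

include hp hA hdI h1 hx in
lemma mulD_cdp (i : σ) : MulD (cdp p d) (x i) := fun m n =>
  cdp_mul_cdp d hp hA hdI h1 (m + n) m n rfl (x i) (hx i)

/-- The ring homomorphism from the universal model attached to a family. -/
noncomputable def pLift : dpSubring σ →+* A :=
  famLift I (cdp p d) (fun y _ => cdp_zero p d y) x hx (mulD_cdp d hp hA hdI h1 x hx)

lemma pLift_dpMon (e : σ →₀ ℕ) :
    pLift d hp hA hdI h1 x hx (dpMon σ e) = e.prod fun i n => cdp p d n (x i) := by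
  unfold pLift famLift
  exact dpLift_dpMon _ _ _ e

lemma pLift_dpow_X [DecidableEq σ] (i : σ) (n : ℕ) :
    pLift d hp hA hdI h1 x hx ((dpPlus σ).dpow n (dpMon σ (Finsupp.single i 1))) =
      cdp p d n (x i) :=
  famLift_dpow_X I (cdp p d) _ x hx _ i n

lemma pLift_X [DecidableEq σ] (i : σ) :
    pLift d hp hA hdI h1 x hx (dpMon σ (Finsupp.single i 1)) = x i :=
  famLift_X I (cdp p d) _ (fun y _ => cdp_one d hp hA y) x hx _ i

lemma pLift_mem : ∀ f ∈ dpAug σ, pLift d hp hA hdI h1 x hx f ∈ I := by
  classical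
  refine dpAug_induction σ (P := fun f => pLift d hp hA hdI h1 x hx f ∈ I) ?_ ?_ ?_
  · rw [map_zero]
    exact I.zero_mem
  · intro f g _ _ hf hg
    rw [map_add]
    exact I.add_mem hf hg
  · intro z e he
    obtain ⟨i0, hi0⟩ : ∃ i, i ∈ e.support := by
      by_contra h
      push Not at h
      exact he (Finsupp.support_eq_empty.mp (Finset.eq_empty_of_forall_notMem h))
    rw [map_zsmul, pLift_dpMon, Finsupp.prod, ← Finset.mul_prod_erase _ _ hi0, zsmul_eq_mul]
    refine I.mul_mem_left _ (I.mul_mem_right _ ?_)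
    exact cdp_mem d hp hA hdI _ (Finsupp.mem_support_iff.mp hi0) _ (hx i0)

lemma pLift_dpow_lt {n : ℕ} (hn : n < p) {f : dpSubring σ} (hf : f ∈ dpAug σ) :
    pLift d hp hA hdI h1 x hx ((dpPlus σ).dpow n f) =
      cdp p d n (pLift d hp hA hdI h1 x hx f) := by
  have hU : IsUnit ((n.factorial : ℕ) : A) :=
    hA _ (fun hdvd => absurd ((Nat.Prime.dvd_factorial hp).mp hdvd) (not_le.mpr hn))
  apply hU.mul_left_cancel
  rw [cdp_fac d hp hA hdI h1 n _ (pLift_mem d hp hA hdI h1 x hx f hf), ← map_pow,
    ← DividedPowers.factorial_mul_dpow_eq_pow (dpPlus σ) hf, map_mul, map_natCast]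

include hp h2 in
lemma d_zero : d 0 = 0 := by
  have := h2 0 0 I.zero_mem
  rwa [zero_mul, zero_pow hp.ne_zero, zero_mul] at this

include h2 h3 in
lemma pLift_dpow_p : ∀ f ∈ dpAug σ, pLift d hp hA hdI h1 x hx ((dpPlus σ).dpow p f) =
    d (pLift d hp hA hdI h1 x hx f) := by
  classical
  refine dpAug_induction σ (P := fun f => pLift d hp hA hdI h1 x hx ((dpPlus σ).dpow p f) =
    d (pLift d hp hA hdI h1 x hx f)) ?_ ?_ ?_
  · rw [(dpPlus σ).dpow_eval_zero hp.ne_zero, map_zero, d_zero d hp h2]
  · intro f g hf hg ihf ihg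
    have hfI := pLift_mem d hp hA hdI h1 x hx f hf
    have hgI := pLift_mem d hp hA hdI h1 x hx g hg
    rw [(dpPlus σ).dpow_add hf hg, map_sum, map_add, h3 _ hfI _ hgI,
      sum_antidiagonal_split hp]
    congr 1
    · rw [map_mul, map_mul, (dpPlus σ).dpow_zero hf, (dpPlus σ).dpow_zero hg, map_one, mul_one,
        one_mul, ihf, ihg]
    · refine Finset.sum_congr rfl fun k hk => ?_
      rw [Finset.mem_filter, Finset.mem_antidiagonal] at hk
      have hk1 : k.1 < p := by omega
      have hk2 : k.2 < p := by omega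
      rw [map_mul, pLift_dpow_lt d hp hA hdI h1 x hx hk1 hf,
        pLift_dpow_lt d hp hA hdI h1 x hx hk2 hg, cdp_of_lt d hp hA hdI h1 hk1 hfI,
        cdp_of_lt d hp hA hdI h1 hk2 hgI, Nat.cast_mul, Ring.mul_inverse_rev]
      ring
  · intro z e he
    obtain ⟨i0, hi0⟩ : ∃ i, i ∈ e.support := by
      by_contra h
      push Not at h
      exact he (Finsupp.support_eq_empty.mp (Finset.eq_empty_of_forall_notMem h))
    have hn : e i0 ≠ 0 := Finsupp.mem_support_iff.mp hi0
    have hv : dpMon σ (Finsupp.single i0 1) ∈ dpAug σ := dpMon_mem_dpAug σ (by simp)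
    have hw : (dpPlus σ).dpow (e i0) (dpMon σ (Finsupp.single i0 1)) ∈ dpAug σ :=
      (dpPlus σ).dpow_mem hn hv
    have hdis : Disjoint (Finsupp.single i0 (e i0)).support (e.erase i0).support := by
      rw [Finsupp.support_single _ hn, Finset.disjoint_singleton_left, Finsupp.support_erase]
      exact Finset.notMem_erase _ _
    have hdecomp : z • dpMon σ e = ((z : dpSubring σ) * dpMon σ (e.erase i0)) *
        (dpPlus σ).dpow (e i0) (dpMon σ (Finsupp.single i0 1)) := by
      rw [dpPlus_dpow_X, zsmul_eq_mul, mul_assoc]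
      congr 1
      rw [mul_comm, dpMon_mul, echoose_of_disjoint _ _ hdis, Nat.cast_one, one_mul,
        Finsupp.single_add_erase]
    have hdI' : cdp p d (e i0) (x i0) ∈ I := cdp_mem d hp hA hdI _ hn _ (hx i0)
    have hR : pLift d hp hA hdI h1 x hx (((z : dpSubring σ) * dpMon σ (e.erase i0)) *
        (dpPlus σ).dpow (e i0) (dpMon σ (Finsupp.single i0 1))) =
        pLift d hp hA hdI h1 x hx ((z : dpSubring σ) * dpMon σ (e.erase i0)) *
          cdp p d (e i0) (x i0) := by
      rw [map_mul, pLift_dpow_X]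
    rw [hdecomp, hR, h2 _ _ hdI', cdp_d d hp hA hdI h1 h2 _ hn _ (hx i0),
      (dpPlus σ).dpow_mul hw, (dpPlus σ).dpow_comp hn hv]
    simp only [map_mul, map_pow, map_natCast, pLift_dpow_X]

include h2 h3 in
lemma pLift_dpow : ∀ (n : ℕ), ∀ f ∈ dpAug σ, pLift d hp hA hdI h1 x hx ((dpPlus σ).dpow n f) =
    cdp p d n (pLift d hp hA hdI h1 x hx f) := by
  intro n
  induction n using Nat.strong_induction_on with
  | _ n ih =>
    intro f hf
    rcases Nat.eq_zero_or_pos n with rfl | hn
    · rw [(dpPlus σ).dpow_zero hf, map_one, cdp_zero]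
    have hqlt : n / p < n := Nat.div_lt_self hn hp.one_lt
    apply (isUnit_pN hp hA n).mul_left_cancel
    have hpf : (dpPlus σ).dpow p f ∈ dpAug σ := (dpPlus σ).dpow_mem hp.ne_zero hf
    rw [cdp_rec d hp hA, ← pLift_dpow_p d hp hA hdI h1 h2 h3 x hx f hf, ← ih _ hqlt _ hpf,
      ← map_pow, ← map_mul, ← dpow_rec (dpPlus σ) hp n hf, map_mul, map_natCast]

end Model

section Final

variable {A : Type u} [CommRing A] {p : ℕ} (d : A → A) (hp : p.Prime)
  (hA : ∀ n : ℕ, ¬ p ∣ n → IsUnit (n : A)) {I : Ideal A} (hdI : ∀ x ∈ I, d x ∈ I)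
  (h1 : ∀ x ∈ I, (p.factorial : A) * d x = x ^ p)
  (h2 : ∀ (a x : A), x ∈ I → d (a * x) = a ^ p * d x)
  (h3 : ∀ x ∈ I, ∀ y ∈ I, d (x + y) = d x + d y +
      ((Finset.antidiagonal p).filter fun k => 0 < k.1 ∧ 0 < k.2).sum
        fun k => Ring.inverse ((k.1.factorial * k.2.factorial : ℕ) : A) * x ^ k.1 * y ^ k.2)

include hp hA hdI h1 h2 h3 in
lemma cdp_add (n : ℕ) {x y : A} (hx : x ∈ I) (hy : y ∈ I) :
    cdp p d n (x + y) = ∑ k ∈ antidiagonal n, cdp p d k.1 x * cdp p d k.2 y := by
  classical
  have hxy : ∀ b : Bool, cond b y x ∈ I := by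
    intro b
    cases b
    · exact hx
    · exact hy
  have hu : dpMon Bool (Finsupp.single false 1) ∈ dpAug Bool := dpMon_mem_dpAug Bool (by simp)
  have hv : dpMon Bool (Finsupp.single true 1) ∈ dpAug Bool := dpMon_mem_dpAug Bool (by simp)
  have hφ : pLift d hp hA hdI h1 (fun b : Bool => cond b y x) hxy
      (dpMon Bool (Finsupp.single false 1) + dpMon Bool (Finsupp.single true 1)) = x + y := by
    rw [map_add, pLift_X, pLift_X]
    rfl
  rw [← hφ, ← pLift_dpow d hp hA hdI h1 h2 h3 _ hxy n _ ((dpAug Bool).add_mem hu hv),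
    (dpPlus Bool).dpow_add hu hv, map_sum]
  refine Finset.sum_congr rfl fun k _ => ?_
  rw [map_mul, pLift_dpow_X, pLift_dpow_X]
  rfl

include hp hA hdI h1 h2 h3 in
lemma cdp_comp (m : ℕ) {n : ℕ} (hn : n ≠ 0) {x : A} (hx : x ∈ I) :
    cdp p d m (cdp p d n x) = (Nat.uniformBell m n : A) * cdp p d (m * n) x := by
  classical
  have hxu : ∀ _ : Unit, x ∈ I := fun _ => hx
  have hu : dpMon Unit (Finsupp.single () 1) ∈ dpAug Unit := dpMon_mem_dpAug Unit (by simp)
  have e1 := pLift_dpow_X d hp hA hdI h1 (fun _ : Unit => x) hxu () n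
  have e2 := pLift_dpow d hp hA hdI h1 h2 h3 (fun _ : Unit => x) hxu m _
    ((dpPlus Unit).dpow_mem hn hu)
  rw [e1, (dpPlus Unit).dpow_comp hn hu, map_mul, map_natCast, pLift_dpow_X] at e2
  exact e2.symm

include hp hA hdI h1 h2 h3 in
/-- Existence of a divided power structure with prescribed `p`-th divided power. -/
theorem exists_dividedPowers_of_dpow_prime :
    ∃ γ : DividedPowers I, ∀ x ∈ I, γ.dpow p x = d x := by
  classical
  refine ⟨{ dpow := fun n x => if x ∈ I then cdp p d n x else 0
            dpow_null := fun {n x} hx => if_neg hx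
            dpow_zero := fun {x} hx => by rw [if_pos hx, cdp_zero]
            dpow_one := fun {x} hx => by rw [if_pos hx, cdp_one d hp hA]
            dpow_mem := fun {n x} hn hx => by
              rw [if_pos hx]
              exact cdp_mem d hp hA hdI n hn x hx
            dpow_add := fun {n x y} hx hy => by
              rw [if_pos (I.add_mem hx hy), cdp_add d hp hA hdI h1 h2 h3 n hx hy]
              refine Finset.sum_congr rfl fun k _ => ?_
              rw [if_pos hx, if_pos hy]
            dpow_mul := fun {n a x} hx => by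
              rw [if_pos (I.mul_mem_left a hx), if_pos hx, cdp_mul d hp hA hdI h2 n a x hx]
            mul_dpow := fun {m n x} hx => by
              rw [if_pos hx, if_pos hx, if_pos hx, cdp_mul_cdp d hp hA hdI h1 (m + n) m n rfl x hx]
            dpow_comp := fun {m n x} hn hx => by
              rw [if_pos hx, if_pos (cdp_mem d hp hA hdI n hn x hx), if_pos hx,
                cdp_comp d hp hA hdI h1 h2 h3 m hn hx] }, ?_⟩
  intro x hx
  change (if x ∈ I then cdp p d p x else 0) = d x
  rw [if_pos hx, cdp_self d hp hA]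

include hp hA in
/-- A divided power structure on an ideal of a `ℤ_(p)`-algebra is determined by its `p`-th
divided power. -/
theorem dividedPowers_eq_of_dpow_prime (γ γ' : DividedPowers I)
    (h : ∀ x ∈ I, γ.dpow p x = γ'.dpow p x) : γ = γ' := by
  apply DividedPowers.ext
  intro n
  induction n using Nat.strong_induction_on with
  | _ n ih =>
    intro x hx
    rcases Nat.eq_zero_or_pos n with rfl | hn
    · rw [γ.dpow_zero hx, γ'.dpow_zero hx]
    have hqlt : n / p < n := Nat.div_lt_self hn hp.one_lt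
    apply (isUnit_pN hp hA n).mul_left_cancel
    rw [dpow_rec γ hp n hx, dpow_rec γ' hp n hx, ← h x hx,
      ih _ hqlt (γ.dpow_mem hp.ne_zero hx)]

end Final

end Groth.Agent.Lib.Helper6.DP
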